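import Cfsg.Agent.Lib.WalterRank.Statement
import Cfsg.Agent.Lib.Components.Signalizer.Basic
import Cfsg.Agent.Lib.Involution.Basic
import Cfsg.Agent.Lib.Involution.UnitarySylowGroup.Tools
import Cfsg.Agent.Lib.Characterizations.TwoInvolutions

/-!
# Basic facts about settings and blocks, and the final argument with two classes of involutions
-/

set_option autoImplicit false
set_option linter.unusedSectionVars false
set_option linter.style.haveILetI false

universe u

namespace CfsgLib.WalterRank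

open Subgroup
open CfsgLib.Components.CoreSeparated (img qmap)

variable {G : Type u} [Group G] {S : Subgroup G}

namespace Setting

theorem commute (St : Setting S) {a b : G} (ha : a ∈ S) (hb : b ∈ S) : Commute a b :=
  congrArg Subtype.val (St.elem.1.1.1 ⟨a, ha⟩ ⟨b, hb⟩)

theorem mul_self (St : Setting S) {a : G} (ha : a ∈ S) : a * a = 1 := by
  rw [← pow_two]; exact St.elem.2 a ha

theorem orderOf_two (St : Setting S) {a : G} (ha : a ∈ S) (ha1 : a ≠ 1) : orderOf a = 2 :=
  Involution.Dihedral.orderOf_eq_two (St.mul_self ha) ha1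

theorem isPGroup (St : Setting S) : IsPGroup 2 S := fun x =>
  ⟨1, Subtype.ext (by rw [pow_one]; exact St.elem.2 x x.2)⟩

theorem le_cent (St : Setting S) {a : G} (ha : a ∈ S) : S ≤ cent a := fun _ hb =>
  mem_centralizer_singleton_iff.2 (St.commute hb ha)

theorem le_centralizer (St : Setting S) {D : Subgroup G} (hD : D ≤ S) :
    S ≤ centralizer (D : Set G) := fun _ hb =>
  mem_centralizer_iff.2 fun _ hd => St.commute (hD hd) hb

theorem le_normalizer_of_le (St : Setting S) {D : Subgroup G} (hD : D ≤ S) :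
    S ≤ normalizer (D : Set G) :=
  (St.le_centralizer hD).trans (centralizer_le_normalizer _)

theorem le_normalizer_sup (St : Setting S) {A B : Subgroup G} (hA : A ≤ S) (hB : B ≤ S) :
    B ≤ normalizer (A : Set G) :=
  hB.trans (St.le_normalizer_of_le hA)

theorem mem_sup (St : Setting S) {A B : Subgroup G} (hA : A ≤ S) (hB : B ≤ S) {s : G}
    (hs : s ∈ A ⊔ B) : ∃ a ∈ A, ∃ b ∈ B, a * b = s :=
  (Coprime.mem_sup_of_le_normalizer (St.le_normalizer_sup hA hB)).1 hs

/-- Burnside fusion inside `S`. -/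
theorem fusion [Finite G] (St : Setting S) {a b g : G} (ha : a ∈ S) (hb : b ∈ S) (h : g * a * g⁻¹ = b) :
    ∃ n ∈ normalizer (S : Set G), n * a * n⁻¹ = b := by
  obtain ⟨P, hP⟩ := St.sylow
  have := Involution.UnitarySylowGroup.fusion P (hP ▸ St.le_cent ha) (hP ▸ St.le_cent hb) h
  rwa [hP] at this

theorem exists_conj_mem [Finite G] (St : Setting S) {H : Subgroup G} (hS : S ≤ H) {z : G}
    (hz : z ∈ H) (hz2 : orderOf z = 2) : ∃ m ∈ H, m * z * m⁻¹ ∈ S := by
  obtain ⟨P, hP⟩ := St.sylow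
  obtain ⟨m, hm⟩ := Involution.Basic.exists_conj_mem (P.subtype (hP ▸ hS))
    (x := (⟨z, hz⟩ : H)) (by rwa [← Subgroup.orderOf_coe])
  refine ⟨m, m.2, ?_⟩
  have hm' : ((m * ⟨z, hz⟩ * m⁻¹ : H) : G) ∈ (P : Subgroup G) := hm
  rw [hP] at hm'
  simpa using hm'

end Setting

/-- Conjugation of a centraliser. -/
theorem conj_mem_cent {g x a : G} (hx : x ∈ cent a) : g * x * g⁻¹ ∈ cent (g * a * g⁻¹) := by
  rw [mem_centralizer_singleton_iff] at hx ⊢
  calc g * x * g⁻¹ * (g * a * g⁻¹) = g * (x * a) * g⁻¹ := by group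
    _ = g * (a * x) * g⁻¹ := by rw [hx]
    _ = g * a * g⁻¹ * (g * x * g⁻¹) := by group

variable [Finite G]

/-- **Two classes.**  No proper subgroup contains `S` and all centralisers of involutions of `S`. -/
theorem false_of_cent_le (St : Setting S) {M : Subgroup G} (hM : M ≠ ⊤) (hSM : S ≤ M)
    (hC : ∀ v ∈ S, v ≠ 1 → cent v ≤ M) {a a' : G} (ha : a ∈ S) (ha1 : a ≠ 1) (ha' : a' ∈ S)
    (ha1' : a' ≠ 1) (hne : ¬ IsConj a a') : False := by
  have hall : ∀ b : G, orderOf b = 2 → b ∈ M := by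
    intro b hb
    obtain ⟨c, hc, hc1, hcb⟩ : ∃ c ∈ S, c ≠ 1 ∧ ¬ IsConj c b := by
      by_cases h : IsConj a b
      · exact ⟨a', ha', ha1', fun h' => hne (h.trans h'.symm)⟩
      · exact ⟨a, ha, ha1, h⟩
    obtain ⟨z, hz, hzc, hzb, -⟩ := Characterizations.TwoInvolutions.exists_central_involution_of_not_isConj
      (St.orderOf_two hc hc1) hb hcb
    have hzM : z ∈ M := hC c hc hc1 (mem_centralizer_singleton_iff.2 hzc)
    obtain ⟨m, hm, hms⟩ := St.exists_conj_mem hSM hzM hz
    have hms1 : m * z * m⁻¹ ≠ 1 := fun e => by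
      rw [conj_eq_one_iff] at e
      rw [e, orderOf_one] at hz; norm_num at hz
    have h2 := hC _ hms hms1 (conj_mem_cent (g := m) (mem_centralizer_singleton_iff.2 hzb.symm.eq))
    have := mul_mem (mul_mem (inv_mem hm) h2) hm
    rwa [show m⁻¹ * (m * b * m⁻¹) * m = b by group] at this
  haveI := St.simple
  haveI hn : (closure {b : G | orderOf b = 2}).Normal := by
    refine ⟨fun x hx g => ?_⟩
    have : closure {b : G | orderOf b = 2} ≤
        (closure {b : G | orderOf b = 2}).comap (MulAut.conj g).toMonoidHom := by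
      refine (closure_le _).2 fun b (hb : orderOf b = 2) => subset_closure ?_
      show orderOf (g * b * g⁻¹) = 2
      rw [Involution.Dihedral.orderOf_conj]; exact hb
    exact this hx
  rcases hn.eq_bot_or_eq_top with h | h
  · have h1 : a ∈ closure {b : G | orderOf b = 2} := subset_closure (St.orderOf_two ha ha1)
    rw [h, Subgroup.mem_bot] at h1
    exact ha1 h1
  · exact hM (eq_top_iff.2 (h ▸ (closure_le M).2 hall))

namespace Blocks

variable {ι : Type*} {U : ι → Subgroup G}

theorem le (B : Blocks S U) (i : ι) : U i ≤ S := B.sup ▸ le_iSup U i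

theorem others_le (B : Blocks S U) (i : ι) : others U i ≤ S := iSup_le fun j => B.le j

theorem le_others (_B : Blocks S U) {i j : ι} (h : j ≠ i) : U j ≤ others U i :=
  le_iSup (fun k : {k : ι // k ≠ i} => U k) ⟨j, h⟩

theorem eq_one (B : Blocks S U) {i : ι} {x : G} (h : x ∈ U i) (h' : x ∈ others U i) : x = 1 := by
  rw [← Subgroup.mem_bot, ← B.indep i]
  exact mem_inf.2 ⟨h, h'⟩

theorem sup_others (B : Blocks S U) (i : ι) : U i ⊔ others U i = S := by
  refine le_antisymm (sup_le (B.le i) (B.others_le i)) ?_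
  rw [← B.sup]
  refine iSup_le fun j => ?_
  rcases eq_or_ne j i with rfl | h
  · exact le_sup_left
  · exact (B.le_others h).trans le_sup_right

theorem eq_of_mem (B : Blocks S U) {i j : ι} {x : G} (hi : x ∈ U i) (hj : x ∈ U j) (hx : x ≠ 1) :
    i = j := by
  by_contra h
  exact hx (B.eq_one hi (B.le_others (Ne.symm h) hj))

theorem exists_ne_one (B : Blocks S U) (i : ι) : ∃ x ∈ U i, x ≠ 1 :=
  (U i).bot_or_exists_ne_one.resolve_left fun e => by
    have := B.four i; rw [e, Subgroup.card_bot] at this; omega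

theorem ne_of_mem (B : Blocks S U) {i j : ι} (hij : i ≠ j) {x y : G} (hx : x ∈ U i) (hx1 : x ≠ 1)
    (hy : y ∈ U j) : x ≠ y := fun e => hij (B.eq_of_mem hx (e ▸ hy) hx1)

/-- A product over two blocks lies in no block. -/
theorem mul_not_mem (B : Blocks S U) {i j k : ι} (hij : i ≠ j) {x y : G} (hx : x ∈ U i) (hx1 : x ≠ 1)
    (hy : y ∈ U j) (hy1 : y ≠ 1) : x * y ∉ U k := by
  intro h
  rcases eq_or_ne k i with rfl | hki
  · exact hy1 (B.eq_one (i := j) hy (B.le_others hij (by
      have := mul_mem (inv_mem hx) h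
      rwa [inv_mul_cancel_left] at this)))
  · exact hx1 (B.eq_one (i := i) hx (by
      have := mul_mem (B.le_others hki h) ((others U i).inv_mem (B.le_others (Ne.symm hij) hy))
      rwa [mul_inv_cancel_right] at this))

/-- `N(S)` permutes the blocks. -/
theorem conj_mem (B : Blocks S U) {g : G} (hg : g ∈ normalizer (S : Set G)) (i : ι) :
    ∃ j, ∀ x, x ∈ U i ↔ g * x * g⁻¹ ∈ U j := by
  obtain ⟨j, hj⟩ := B.perm g hg i
  refine ⟨j, fun x => ⟨fun hx => hj ▸ ⟨x, hx, rfl⟩, fun hx => ?_⟩⟩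
  rw [← hj] at hx
  obtain ⟨y, hy, e⟩ := hx
  have : y = x := (MulAut.conj g).injective e
  rwa [← this]

/-- The contradiction from a proper subgroup containing all centralisers. -/
theorem false_of_cent_le (B : Blocks S U) (St : Setting S) {M : Subgroup G} (hM : M ≠ ⊤)
    (hSM : S ≤ M) (hC : ∀ v ∈ S, v ≠ 1 → cent v ≤ M) : False := by
  obtain ⟨i⟩ := B.inhabited
  obtain ⟨j, hji, -⟩ := B.third i i
  obtain ⟨x, hx, hx1⟩ := B.exists_ne_one i
  obtain ⟨y, hy, hy1⟩ := B.exists_ne_one j
  have hxS := B.le i hx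
  have hzS : x * y ∈ S := mul_mem hxS (B.le j hy)
  have hz1 : x * y ≠ 1 := fun e => B.mul_not_mem (k := i) hji.symm hx hx1 hy hy1 (e ▸ one_mem _)
  refine WalterRank.false_of_cent_le St hM hSM hC hxS hx1 hzS hz1 fun h => ?_
  obtain ⟨g, hg⟩ := isConj_iff.1 h
  obtain ⟨n, hn, hnx⟩ := St.fusion hxS hzS hg
  obtain ⟨k, hk⟩ := B.conj_mem hn i
  exact B.mul_not_mem hji.symm hx hx1 hy hy1 (hnx ▸ (hk x).1 hx)

end Blocks

end CfsgLib.WalterRank
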