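import Cfsg.Agent.Lib.WalterRank.Statement
import Cfsg.Agent.Lib.Classical.SL2Sylow
import Cfsg.Agent.Lib.KGroups.AbelianTwo.SLTwo
import Cfsg.Agent.Lib.Fusion.Transfer
import Cfsg.Agent.Lib.LocalEven.ProductFusion.Basic
import Cfsg.Agent.S0205

/-!
# The automiser of an abelian Sylow 2-subgroup of a simple group

No non-identity element is fixed by the whole automiser.  Hence for order 4 or 8 an element of order
3 or 7 is transitive on the non-identity elements; for order at least 16 the inductive hypothesis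
gives `PSL(2,2^a)` and a torus element does it.
-/

set_option autoImplicit false
set_option linter.unusedSectionVars false
set_option linter.style.haveILetI false

universe v

namespace CfsgLib.WalterRank

open Subgroup

/-- `T` has exponent 2 and one element of its normalizer is transitive on `T#`. -/
def Rotatable {J : Type*} [Group J] (T : Subgroup J) : Prop :=
  (∀ a ∈ T, a * a = 1) ∧ ∃ g ∈ normalizer (T : Set J),
    ∀ a ∈ T, a ≠ 1 → ∀ b ∈ T, b ≠ 1 → ∃ n : ℕ, g ^ n * a * (g ^ n)⁻¹ = b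

theorem Rotatable.map {J K : Type*} [Group J] [Group K] {T : Subgroup J} (h : Rotatable T)
    (f : J →* K) (hf : Function.Injective f) : Rotatable (T.map f) := by
  obtain ⟨he, g, hg, hgt⟩ := h
  refine ⟨?_, f g, le_normalizer_map f (H := T) ⟨g, hg, rfl⟩, ?_⟩
  · rintro _ ⟨a, ha, rfl⟩
    rw [← map_mul, he a ha, map_one]
  · rintro _ ⟨a, ha, rfl⟩ ha1 _ ⟨b, hb, rfl⟩ hb1
    obtain ⟨n, hn⟩ := hgt a ha (fun e => ha1 (by rw [e, map_one])) b hb (fun e => hb1 (by rw [e, map_one]))
    exact ⟨n, by rw [← map_pow, ← map_inv, ← map_mul, ← map_mul, hn]⟩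

theorem commutator_eq_top_of_simple {J : Type*} [Group J] [IsSimpleGroup J]
    (hna : ¬ IsMulCommutative J) : commutator J = ⊤ := by
  refine (inferInstance : (commutator J).Normal).eq_bot_or_eq_top.resolve_left fun h => hna ?_
  refine ⟨⟨fun a b => ?_⟩⟩
  exact commutatorElement_eq_one_iff_mul_comm.1 (mem_bot.1 (h ▸ commutator_mem_commutator (mem_top a) (mem_top b)))

/-- Burnside: no element of an abelian Sylow subgroup of a perfect group is fixed by the normalizer. -/
theorem eq_one_of_fixed {J : Type*} [Group J] [Finite J] {p : ℕ} [Fact p.Prime]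
    (hJ : commutator J = ⊤) (T : Sylow p J) (hT : IsMulCommutative ↥(T : Subgroup J)) {x : J}
    (hx : x ∈ T) (hfix : ∀ n ∈ normalizer ((T : Subgroup J) : Set J), n * x = x * n) : x = 1 := by
  letI : CommGroup ↥(T : Subgroup J) :=
    { (inferInstance : Group ↥(T : Subgroup J)) with mul_comm := hT.is_comm.comm }
  have hcen : ∀ y ∈ (T : Subgroup J), y ∈ centralizer ((T : Subgroup J) : Set J) := fun y hy =>
    mem_centralizer_iff.2 fun m hm => congrArg Subtype.val (hT.is_comm.comm ⟨m, hm⟩ ⟨y, hy⟩)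
  have key : ∀ (k : ℕ) (g₀ : J), g₀⁻¹ * x ^ k * g₀ ∈ (T : Subgroup J) → g₀⁻¹ * x ^ k * g₀ = x ^ k := by
    intro k g₀ hk
    obtain ⟨n, hn, he⟩ := Fusion.Transfer.burnside_central T (x := x ^ k) (y := g₀⁻¹ * x ^ k * g₀)
      (hcen _ (pow_mem hx k)) (hcen _ hk) ⟨g₀⁻¹, by rw [inv_inv]⟩
    rw [← he, show n * x ^ k = x ^ k * n from (Commute.pow_right (hfix n hn) k).eq, mul_inv_cancel_right]
  have h0 : MonoidHom.transfer (MonoidHom.id ↥(T : Subgroup J)) x = 1 := MonoidHom.mem_ker.1
    (Abelianization.commutator_subset_ker _ (hJ.ge (mem_top x)))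
  have h1 := h0.symm.trans (MonoidHom.transfer_eq_pow (MonoidHom.id ↥(T : Subgroup J)) x key)
  have h2 : x ^ (T : Subgroup J).index = 1 := (congrArg Subtype.val h1).symm
  obtain ⟨k, hk⟩ := T.2 ⟨x, hx⟩
  have h3 := pow_gcd_eq_one.2 ⟨congrArg Subtype.val hk, h2⟩
  rwa [Nat.Coprime.gcd_eq_one (((Fact.out : p.Prime).coprime_iff_not_dvd.2 T.not_dvd_index).pow_left k),
    pow_one] at h3

variable {J : Type v} [Group J] [Finite J] [IsSimpleGroup J]

theorem exists_two_le (hna : ¬ IsMulCommutative J) (T : Sylow 2 J) : (T : Subgroup J) ≠ ⊥ := by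
  intro h
  have hodd : Odd (Nat.card J) := by
    rw [← Subgroup.index_bot, ← h]
    exact Nat.not_even_iff_odd.1 fun he => T.not_dvd_index he.two_dvd
  haveI : Group.IsSolvable J := Cfsg.Agent.S0205.result hodd
  exact hna ⟨⟨IsSimpleGroup.comm_iff_isSolvable.2 inferInstance⟩⟩

/-- Order 4 or 8 (and never 2). -/
theorem rotatable_small (hna : ¬ IsMulCommutative J) (T : Sylow 2 J)
    (hT : IsMulCommutative ↥(T : Subgroup J)) (h8 : Nat.card ↥(T : Subgroup J) ≤ 8) :
    4 ≤ Nat.card ↥(T : Subgroup J) ∧ Rotatable (T : Subgroup J) := by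
  haveI : Fact (Nat.Prime 2) := ⟨Nat.prime_two⟩
  set N := normalizer ((T : Subgroup J) : Set J)
  set f := (T : Subgroup J).normalizerMonoidHom with hf
  have hcomm : ∀ a ∈ (T : Subgroup J), ∀ b ∈ (T : Subgroup J), a * b = b * a := fun a ha b hb =>
    congrArg Subtype.val (hT.is_comm.comm ⟨a, ha⟩ ⟨b, hb⟩)
  have hfix : ∀ a : ↥(T : Subgroup J), (∀ e ∈ f.range, e a = a) → a = 1 := fun a h => by
    refine Subtype.ext (eq_one_of_fixed (commutator_eq_top_of_simple hna) T hT a.2 fun n hn => ?_)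
    exact mul_inv_eq_iff_eq_mul.1 (congrArg Subtype.val (h (f ⟨n, hn⟩) ⟨⟨n, hn⟩, rfl⟩))
  have hodd : Odd (Nat.card f.range) := by
    have h1 : (T : Subgroup J).subgroupOf N ≤ f.ker := by
      rw [hf, normalizerMonoidHom_ker]
      exact fun n hn => mem_subgroupOf.2 fun m hm => hcomm m hm _ hn
    refine Nat.not_even_iff_odd.1 fun he => T.not_dvd_index (he.two_dvd.trans ?_)
    rw [← index_ker]
    exact (index_dvd_of_le h1).trans (relIndex_dvd_index_of_le le_normalizer)
  obtain ⟨j, hj⟩ := IsPGroup.iff_card.1 T.2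
  have hj0 : j ≠ 0 := fun e => exists_two_le hna T (card_eq_one.1 (by rw [hj, e, pow_zero]))
  have hj3 : j ≤ 3 := (Nat.pow_le_pow_iff_right (by norm_num)).1 (hj ▸ h8)
  -- the fixed points of an element of prime order
  have hmoved : ∀ p : ℕ, p.Prime → ∀ e ∈ f.range, orderOf e = p →
      ∃ i : ℕ, i < j ∧ p ∣ 2 ^ j - 2 ^ i ∧ ∀ a : ↥(T : Subgroup J), (p ∣ 2 ^ j - 2 ^ i → i = 0) →
        e a = a → a = 1 := by
    intro p hp e _ hep
    haveI : Fact p.Prime := ⟨hp⟩
    let F : Subgroup ↥(T : Subgroup J) :=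
      { carrier := {a | e a = a}
        one_mem' := map_one e
        mul_mem' := fun {a b} ha hb => by
          show e (a * b) = a * b
          rw [map_mul, show e a = a from ha, show e b = b from hb]
        inv_mem' := fun {a} ha => by
          show e a⁻¹ = a⁻¹
          rw [map_inv, show e a = a from ha] }
    obtain ⟨i, hi, hFc⟩ := (Nat.dvd_prime_pow Nat.prime_two).1 (hj ▸ F.card_subgroup_dvd_card)
    have hfixed : MulAction.fixedPoints (zpowers e) ↥(T : Subgroup J) = (F : Set _) := by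
      ext a
      constructor
      · intro h; exact h ⟨e, mem_zpowers e⟩
      · rintro h ⟨g, hg⟩
        obtain ⟨n, rfl⟩ := mem_zpowers_iff.1 hg
        exact zpow_mem (show e ∈ MulAction.stabilizer (MulAut ↥(T : Subgroup J)) a from h) n
    have hmod := (IsPGroup.of_card (p := p) (n := 1)
      (by rw [Nat.card_zpowers, hep, pow_one])).card_modEq_card_fixedPoints ↥(T : Subgroup J)
      (G := ↥(zpowers e))
    rw [hfixed, SetLike.coe_sort_coe, hj, hFc] at hmod
    have hij : i ≠ j := by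
      rintro rfl
      have : e = 1 := MulEquiv.ext fun a => by
        have := eq_top_of_card_eq F (hFc.trans hj.symm)
        exact (this.ge (mem_top a) : a ∈ F)
      rw [this, orderOf_one] at hep
      exact hp.one_lt.ne hep
    have hdvd : p ∣ 2 ^ j - 2 ^ i :=
      (Nat.modEq_iff_dvd' (Nat.pow_le_pow_right two_pos hi)).1 hmod.symm
    refine ⟨i, lt_of_le_of_ne hi hij, hdvd, fun a h0 ha => ?_⟩
    rw [h0 hdvd, pow_zero, card_eq_one] at hFc
    exact mem_bot.1 (hFc ▸ (show a ∈ F from ha))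
  -- `j ≠ 1`, and some element has order `2 ^ j - 1`
  have hq : j ≠ 1 ∧ ∃ e ∈ f.range, orderOf e = 2 ^ j - 1 := by
    have hprimes : ∀ p : ℕ, p.Prime → p ∣ Nat.card f.range →
        p ≠ 2 ∧ ∃ i, i < j ∧ p ∣ 2 ^ j - 2 ^ i := by
      intro p hp hd
      haveI : Fact p.Prime := ⟨hp⟩
      refine ⟨fun e => Nat.not_even_iff_odd.2 hodd (even_iff_two_dvd.2 (e ▸ hd)), ?_⟩
      obtain ⟨e, he⟩ := exists_prime_orderOf_dvd_card' p hd
      obtain ⟨i, h1, h2, -⟩ := hmoved p hp _ e.2 (by rw [Subgroup.orderOf_coe, he])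
      exact ⟨i, h1, h2⟩
    have hne : f.range ≠ ⊥ := fun h => exists_two_le hna T (eq_bot_iff.2 fun a ha => by
      have := hfix ⟨a, ha⟩ fun e he => by rw [h, mem_bot] at he; rw [he, MulAut.one_apply]
      exact mem_bot.2 (congrArg Subtype.val this))
    obtain ⟨p, hp, hpd⟩ := Nat.exists_prime_and_dvd fun h => hne (card_eq_one.1 h)
    obtain ⟨hp2, i, hi, hpi⟩ := hprimes p hp hpd
    have hdvd : j ≠ 1 → 2 ^ j - 1 ∣ Nat.card f.range → ∃ e ∈ f.range, orderOf e = 2 ^ j - 1 := by
      intro hne1 hd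
      haveI : Fact (2 ^ j - 1).Prime := ⟨by
        rcases (show j = 1 ∨ j = 2 ∨ j = 3 by omega) with rfl | rfl | rfl
        · exact absurd rfl hne1
        all_goals norm_num⟩
      obtain ⟨e, he⟩ := exists_prime_orderOf_dvd_card' (2 ^ j - 1) hd
      exact ⟨e, e.2, by rw [Subgroup.orderOf_coe, he]⟩
    rcases (show j = 1 ∨ j = 2 ∨ j = 3 by omega) with rfl | rfl | rfl
    · exfalso
      have hi0 : i = 0 := by omega
      subst hi0
      exact hp.one_lt.ne' (Nat.dvd_one.1 hpi)
    · refine ⟨by norm_num, hdvd (by norm_num) ?_⟩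
      interval_cases i
      · have h3 : p = 3 := (Nat.prime_dvd_prime_iff_eq hp Nat.prime_three).1 hpi
        rw [h3] at hpd
        exact hpd
      · exact absurd ((Nat.prime_dvd_prime_iff_eq hp Nat.prime_two).1 hpi) hp2
    · refine ⟨by norm_num, hdvd (by norm_num) ?_⟩
      rw [show 2 ^ 3 - 1 = 7 from rfl]
      by_contra h7
      haveI : Fact (Nat.Prime 3) := ⟨Nat.prime_three⟩
      have h3 : IsPGroup 3 f.range := by
        refine IsPGroup.of_card (G := ↥f.range)
          (Nat.eq_prime_pow_of_unique_prime_dvd Nat.card_pos.ne' fun {r} hr hrd => ?_)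
        obtain ⟨hr2, i', hi', hri⟩ := hprimes r hr hrd
        interval_cases i'
        · exact absurd ((Nat.prime_dvd_prime_iff_eq hr (by norm_num : Nat.Prime 7)).1 hri ▸ hrd) h7
        · rcases (Nat.Prime.dvd_mul hr).1 (show r ∣ 2 * 3 from hri) with h | h
          · exact absurd ((Nat.prime_dvd_prime_iff_eq hr Nat.prime_two).1 h) hr2
          · exact (Nat.prime_dvd_prime_iff_eq hr Nat.prime_three).1 h
        · exact absurd ((Nat.prime_dvd_prime_iff_eq hr Nat.prime_two).1
            (hr.dvd_of_dvd_pow (show r ∣ 2 ^ 2 from hri))) hr2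
      have hmod := h3.card_modEq_card_fixedPoints ↥(T : Subgroup J) (G := ↥f.range)
      have h1 : MulAction.fixedPoints f.range ↥(T : Subgroup J) = {1} := by
        ext a
        exact ⟨fun ha => hfix a fun e he => ha ⟨e, he⟩,
          fun ha g => by rw [show a = 1 from ha]; exact map_one (g : MulAut ↥(T : Subgroup J))⟩
      rw [h1, hj, Nat.card_eq_fintype_card, Set.card_singleton] at hmod
      exact absurd hmod (by decide)
  obtain ⟨hj1, e, he, heo⟩ := hq
  refine ⟨?_, ?_⟩
  · rw [hj]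
    exact le_trans (by norm_num) (Nat.pow_le_pow_right two_pos (show 2 ≤ j by omega))
  have hqp : (2 ^ j - 1).Prime := by
    rcases (show j = 1 ∨ j = 2 ∨ j = 3 by omega) with rfl | rfl | rfl
    · exact absurd rfl hj1
    all_goals norm_num
  obtain ⟨i, hi, hdi, hfree⟩ := hmoved _ hqp e he heo
  have hi0 : 2 ^ j - 1 ∣ 2 ^ j - 2 ^ i → i = 0 := fun _ => by
    rcases (show j = 1 ∨ j = 2 ∨ j = 3 by omega) with rfl | rfl | rfl
    · exact absurd rfl hj1
    all_goals (interval_cases i <;> first | rfl | norm_num at hdi)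
  have hnf : ∀ a : ↥(T : Subgroup J), e a = a → a = 1 := fun a => hfree a hi0
  classical
  haveI : Fintype ↥(T : Subgroup J) := Fintype.ofFinite _
  have htrans : ∀ a : ↥(T : Subgroup J), a ≠ 1 → ∀ b, b ≠ 1 → ∃ n : ℕ, (e ^ n) a = b := by
    intro a ha b hb
    have hne : ∀ n : ℕ, (e ^ n) a ≠ 1 := fun n h => ha ((e ^ n).injective (h.trans (map_one _).symm))
    let g : Fin (2 ^ j - 1) → {c : ↥(T : Subgroup J) // c ≠ 1} := fun n => ⟨(e ^ (n : ℕ)) a, hne n⟩
    have hinj : Function.Injective g := by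
      intro m n h
      have h' : (e ^ (m : ℕ)) a = (e ^ (n : ℕ)) a := congrArg Subtype.val h
      by_contra hmn
      wlog hlt : (m : ℕ) < n generalizing m n
      · exact this h.symm h'.symm (Ne.symm hmn) (by
          have := Fin.val_ne_of_ne hmn; omega)
      rw [show (n : ℕ) = m + (n - m) by omega, pow_add, MulAut.mul_apply] at h'
      have hd := (e ^ (m : ℕ)).injective h'
      refine ha (hnf a ?_)
      have hcop : ((n : ℕ) - m).Coprime (orderOf e) := by
        rw [heo]
        exact ((hqp.coprime_iff_not_dvd.2 fun hdv => by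
          have := Nat.le_of_dvd (by omega) hdv; have := n.2; omega)).symm
      obtain ⟨l, hl⟩ := exists_pow_eq_self_of_coprime hcop
      have : e ∈ MulAction.stabilizer (MulAut ↥(T : Subgroup J)) a := hl ▸ pow_mem (show _ from hd.symm) l
      exact this
    have hcard : Fintype.card (Fin (2 ^ j - 1)) = Fintype.card {c : ↥(T : Subgroup J) // c ≠ 1} := by
      rw [Fintype.card_fin, Fintype.card_subtype_compl, Fintype.card_subtype_eq, ← Nat.card_eq_fintype_card, hj]
    obtain ⟨n, hn⟩ := ((Fintype.bijective_iff_injective_and_card g).2 ⟨hinj, hcard⟩).2 ⟨b, hb⟩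
    exact ⟨n, congrArg Subtype.val hn⟩
  obtain ⟨n, rfl⟩ := he
  obtain ⟨t, ht⟩ := exists_prime_orderOf_dvd_card' (G := ↥(T : Subgroup J)) 2
    (by rw [hj]; exact dvd_pow_self 2 hj0)
  have ht1 : t ≠ 1 := fun e => by rw [e, orderOf_one] at ht; omega
  refine ⟨fun a ha => ?_, n, n.2, fun a ha ha1 b hb hb1 => ?_⟩
  · rcases eq_or_ne a 1 with rfl | ha1
    · exact mul_one 1
    obtain ⟨i, hi⟩ := htrans t ht1 ⟨a, ha⟩ (fun e => ha1 (congrArg Subtype.val e))
    have h2 : (⟨a, ha⟩ : ↥(T : Subgroup J)) ^ 2 = 1 := by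
      rw [← hi, ← map_pow, show t ^ 2 = 1 from orderOf_dvd_iff_pow_eq_one.1 ht.dvd, map_one]
    rw [← pow_two]
    exact congrArg Subtype.val h2
  · obtain ⟨i, hi⟩ := htrans ⟨a, ha⟩ (fun e => ha1 (congrArg Subtype.val e)) ⟨b, hb⟩
      (fun e => hb1 (congrArg Subtype.val e))
    refine ⟨i, ?_⟩
    rw [← map_pow] at hi
    exact congrArg Subtype.val hi

section SLTwo

variable {F : Type*} [Field F] [Fintype F] [CharP F 2]

/-- The diagonal element. -/
def diag (g : Fˣ) : Matrix.SpecialLinearGroup (Fin 2) F :=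
  ⟨!![(g : F), 0; 0, ((g⁻¹ : Fˣ) : F)], by simp [Matrix.det_fin_two]⟩

theorem diag_conj (g : Fˣ) (c : F) :
    diag g * Classical.uSL (Multiplicative.ofAdd c) * (diag g)⁻¹ =
      Classical.uSL (Multiplicative.ofAdd ((g : F) * g * c)) := by
  rw [mul_inv_eq_iff_eq_mul]
  apply Subtype.ext
  rw [Matrix.SpecialLinearGroup.coe_mul, Matrix.SpecialLinearGroup.coe_mul, Classical.uSL_coe,
    Classical.uSL_coe]
  ext i j
  fin_cases i <;> fin_cases j <;> simp [diag, Matrix.mul_apply, Fin.sum_univ_two]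
  field_simp

theorem rotatable_unip : Rotatable (Classical.unipSL F) := by
  classical
  have h2 : ∀ c : F, c + c = 0 := CharTwo.add_self_eq_zero
  obtain ⟨γ, hγ⟩ := IsCyclic.exists_generator (α := Fˣ)
  have hgen : ∀ x : Fˣ, ∃ n : ℕ, (γ * γ) ^ n = x := by
    intro x
    have hodd : (2 : ℕ).Coprime (orderOf γ) := by
      rw [Nat.coprime_two_left, Nat.odd_iff]
      obtain ⟨n, -, hn⟩ := FiniteField.card F 2
      rw [orderOf_eq_card_of_forall_mem_zpowers hγ, Nat.card_units, Nat.card_eq_fintype_card, hn]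
      have : 2 ∣ 2 ^ (n : ℕ) := dvd_pow_self 2 n.ne_zero
      have := Nat.one_le_two_pow (n := (n : ℕ))
      omega
    obtain ⟨m, hm⟩ := exists_pow_eq_self_of_coprime hodd
    obtain ⟨l, rfl⟩ := (Submonoid.mem_powers_iff x γ).1 (mem_powers_iff_mem_zpowers.2 (hγ x))
    exact ⟨m * l, by rw [pow_mul, ← pow_two, hm]⟩
  have hpow : ∀ (n : ℕ) (c : F), diag γ ^ n * Classical.uSL (Multiplicative.ofAdd c) * (diag γ ^ n)⁻¹ =
      Classical.uSL (Multiplicative.ofAdd ((((γ * γ) ^ n : Fˣ) : F) * c)) := by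
    intro n
    induction n with
    | zero => intro c; simp
    | succ n ih =>
      intro c
      rw [pow_succ' (diag γ), show diag γ * diag γ ^ n * Classical.uSL (Multiplicative.ofAdd c) *
        (diag γ * diag γ ^ n)⁻¹ = diag γ * (diag γ ^ n * Classical.uSL (Multiplicative.ofAdd c) *
        (diag γ ^ n)⁻¹) * (diag γ)⁻¹ by group, ih, diag_conj, pow_succ' (γ * γ), Units.val_mul,
        Units.val_mul]
      rw [mul_assoc ((γ : F) * γ)]
  refine ⟨?_, diag γ, ?_, ?_⟩
  · rintro _ ⟨c, rfl⟩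
    rw [← map_mul, show c * c = 1 from h2 c.toAdd, map_one]
  · refine LocalEven.ProductFusion.mem_normalizer_of_conj (H := Classical.unipSL F) ?_
    rintro _ ⟨c, rfl⟩
    exact ⟨_, (diag_conj γ c.toAdd).symm⟩
  · rintro _ ⟨a, rfl⟩ ha _ ⟨b, rfl⟩ hb
    have ha0 : a.toAdd ≠ 0 := fun e => ha (by rw [show a = 1 from e, map_one])
    have hb0 : b.toAdd ≠ 0 := fun e => hb (by rw [show b = 1 from e, map_one])
    obtain ⟨n, hn⟩ := hgen (Units.mk0 b.toAdd hb0 * (Units.mk0 a.toAdd ha0)⁻¹)
    refine ⟨n, (hpow n a.toAdd).trans ?_⟩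
    rw [hn, Units.val_mul, Units.val_inv_eq_inv_val, Units.val_mk0, Units.val_mk0, inv_mul_cancel_right₀ ha0,
      ofAdd_toAdd]

end SLTwo

/-- Order at least 16, by induction. -/
theorem rotatable_large {n : ℕ} (hB : LargeBelow.{v} n) (hJn : Nat.card J < n)
    (hna : ¬ IsMulCommutative J) (T : Sylow 2 J) (hT : IsMulCommutative ↥(T : Subgroup J))
    (h16 : 16 ≤ Nat.card ↥(T : Subgroup J)) : Rotatable (T : Subgroup J) := by
  haveI : Fact (Nat.Prime 2) := ⟨Nat.prime_two⟩
  obtain ⟨a, ha, F, hF, hFf, hFc, ⟨e⟩⟩ := hB J hJn hna T hT h16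
  haveI : CharP F 2 := by
    obtain ⟨k, hp, hk⟩ := FiniteField.card F (ringChar F)
    haveI := ringChar.charP F
    have h : ringChar F = 2 := by
      have := hFc ▸ hk
      exact ((Nat.prime_dvd_prime_iff_eq hp Nat.prime_two).1
        (hp.dvd_of_dvd_pow (this ▸ dvd_pow_self _ k.ne_zero)))
    exact h ▸ ringChar.charP F
  set f : Matrix.SpecialLinearGroup (Fin 2) F →* J :=
    e.symm.toMonoidHom.comp (QuotientGroup.mk' (center (Matrix.SpecialLinearGroup (Fin 2) F))) with hf
  have hfi : Function.Injective f := e.symm.injective.comp ((MonoidHom.ker_eq_bot_iff _).1 (by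
    rw [QuotientGroup.ker_mk']; exact KGroups.AbelianTwo.center_sl2_char_two))
  have hfs : Function.Surjective f := e.symm.surjective.comp (QuotientGroup.mk'_surjective _)
  let S₀ : Sylow 2 J := (Classical.unipSLSylow (F := F) 2).mapSurjective (f := f) hfs
  have hR : Rotatable (S₀ : Subgroup J) := (rotatable_unip (F := F)).map f hfi
  obtain ⟨g, hg⟩ := MulAction.exists_smul_eq J S₀ T
  rw [← hg, Sylow.coe_subgroup_smul]
  exact hR.map (MulAut.conj g).toMonoidHom (MulAut.conj g).injective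

/-- The automiser is transitive on `T#`. -/
theorem rotatable {n : ℕ} (hB : LargeBelow.{v} n) (hJn : Nat.card J < n) (hna : ¬ IsMulCommutative J)
    (T : Sylow 2 J) (hT : IsMulCommutative ↥(T : Subgroup J)) :
    4 ≤ Nat.card ↥(T : Subgroup J) ∧ Rotatable (T : Subgroup J) := by
  rcases le_or_gt 16 (Nat.card ↥(T : Subgroup J)) with h | h
  · exact ⟨le_trans (by norm_num) h, rotatable_large hB hJn hna T hT h⟩
  refine rotatable_small hna T hT ?_
  obtain ⟨j, hj⟩ := IsPGroup.iff_card.1 T.2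
  rw [hj] at h ⊢
  have : j < 4 := (Nat.pow_lt_pow_iff_right (by norm_num)).1 (show 2 ^ j < 2 ^ 4 from h)
  exact (Nat.pow_le_pow_right two_pos (show j ≤ 3 by omega))

end CfsgLib.WalterRank
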