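import Cfsg.Agent.Lib.WalterRank.Statement
import Cfsg.Agent.Lib.WalterRank.Rotate
import Cfsg.Agent.Lib.Components.Basic
import Cfsg.Agent.Lib.Components.GenFitting
import Cfsg.Agent.Lib.LocalEvenB.SubnormalSylow
import Cfsg.Agent.Lib.LocalEven.ProductFusion.Product
import Cfsg.Agent.Lib.Fusion.Abelian

/-!
# Components in a group with abelian Sylow 2-subgroup and trivial odd core

A component is simple, the Sylow 2-subgroup normalises it and induces inner automorphisms on it:
the part of the Sylow subgroup fixed by the automiser is strongly closed and commutes with the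
component by product fusion.
-/

set_option autoImplicit false
set_option linter.unusedSectionVars false
set_option linter.style.haveILetI false

universe v

namespace CfsgLib.WalterRank

open Subgroup
open scoped commutatorElement

/-- A simple normal subgroup with abelian Sylow supplement: the Sylow subgroup induces inner
automorphisms. -/
theorem exists_inner_split {K : Type v} [Group K] [Finite K] (hO : Cfsg.oddCore K = ⊥) (S : Sylow 2 K)
    (hS : IsMulCommutative ↥(S : Subgroup K)) (J : Subgroup K) [hJn : J.Normal]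
    (hJs : IsSimpleGroup ↥J) (hJna : ¬ IsMulCommutative ↥J) (hJS : J ⊔ (S : Subgroup K) = ⊤)
    {s : K} (hs : s ∈ S) :
    ∃ d ∈ (S : Subgroup K) ⊓ J, ∃ c ∈ (S : Subgroup K),
      c ∈ centralizer (J : Set K) ∧ s = d * c := by
  haveI : Fact (Nat.Prime 2) := ⟨Nat.prime_two⟩
  haveI := hJs
  set N := normalizer ((S : Subgroup K) : Set K)
  set A : Subgroup ↥N := (S : Subgroup K).subgroupOf N with hA
  haveI hAn : A.Normal := normal_in_normalizer
  have hAc : IsMulCommutative ↥A := ⟨⟨fun a b => Subtype.ext (Subtype.ext (by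
    simpa using congrArg Subtype.val
      (hS.is_comm.comm ⟨((a : N) : K), mem_subgroupOf.1 a.2⟩ ⟨((b : N) : K), mem_subgroupOf.1 b.2⟩)))⟩⟩
  have hHall : (Nat.card ↥A).Coprime A.index := (S.subtype le_normalizer).card_coprime_index
  obtain ⟨-, hdis, hsup⟩ := Fusion.Abelian.normal_hall_decomp A hAc hHall
  set D : Subgroup K := (_root_.commutator ↥N ⊓ A).map N.subtype with hD
  set C : Subgroup K := (center ↥N ⊓ A).map N.subtype with hC
  have hDS : D ≤ (S : Subgroup K) := by
    rintro _ ⟨x, hx, rfl⟩; exact mem_subgroupOf.1 hx.2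
  have hCS : C ≤ (S : Subgroup K) := by
    rintro _ ⟨x, hx, rfl⟩; exact mem_subgroupOf.1 hx.2
  have hKJ : _root_.commutator K ≤ J := by
    refine commutator_le.2 fun a _ b _ => (QuotientGroup.eq_one_iff _).1 ?_
    have hq : ∀ x : K, ∃ u ∈ (S : Subgroup K), QuotientGroup.mk' J u = QuotientGroup.mk' J x := by
      intro x
      obtain ⟨j, hj, u, hu, rfl⟩ := mem_sup_of_normal_left.1 (hJS.ge (mem_top x))
      exact ⟨u, hu, by rw [map_mul, show QuotientGroup.mk' J j = 1 from (QuotientGroup.eq_one_iff j).2 hj, one_mul]⟩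
    obtain ⟨u, hu, hua⟩ := hq a
    obtain ⟨w, hw, hwb⟩ := hq b
    show QuotientGroup.mk' J ⁅a, b⁆ = 1
    rw [map_commutatorElement, ← hua, ← hwb, ← map_commutatorElement,
      commutatorElement_eq_one_iff_mul_comm.2 (congrArg Subtype.val (hS.is_comm.comm ⟨u, hu⟩ ⟨w, hw⟩)),
      map_one]
  have hDJ : D ≤ J := by
    refine le_trans ?_ hKJ
    refine le_trans (map_mono inf_le_left) ?_
    rw [_root_.commutator_def, map_commutator]
    exact commutator_mono le_top le_top
  have hconj : ∀ x ∈ (S : Subgroup K), ∀ g : K, g * x * g⁻¹ ∈ (S : Subgroup K) →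
      ∃ n ∈ N, n * x * n⁻¹ = g * x * g⁻¹ := fun x hx g hg =>
    Fusion.Transfer.burnside_central S
      (mem_centralizer_iff.2 fun m hm => congrArg Subtype.val (hS.is_comm.comm ⟨m, hm⟩ ⟨x, hx⟩))
      (mem_centralizer_iff.2 fun m hm => congrArg Subtype.val (hS.is_comm.comm ⟨m, hm⟩ ⟨_, hg⟩))
      ⟨g, rfl⟩
  have hDcl : Cfsg.IsStronglyClosed D (S : Subgroup K) := by
    refine ⟨hDS, fun x hx g hg => ?_⟩
    obtain ⟨n, hn, he⟩ := hconj x (hDS hx) g hg
    obtain ⟨y, hy, rfl⟩ := hx
    rw [← he]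
    exact ⟨⟨n, hn⟩ * y * ⟨n, hn⟩⁻¹, ⟨(inferInstance : (_root_.commutator ↥N).Normal).conj_mem y hy.1 _,
      hAn.conj_mem y hy.2 _⟩, rfl⟩
  have hCcl : Cfsg.IsStronglyClosed C (S : Subgroup K) := by
    refine ⟨hCS, fun x hx g hg => ?_⟩
    obtain ⟨n, hn, he⟩ := hconj x (hCS hx) g hg
    obtain ⟨y, hy, rfl⟩ := hx
    rw [← he]
    refine ⟨y, hy, ?_⟩
    have h1 := congrArg Subtype.val (mem_center_iff.1 hy.1 ⟨n, hn⟩)
    exact eq_mul_inv_iff_mul_eq.2 h1.symm
  have hDC : ∀ x ∈ (S : Subgroup K), ∃ d ∈ D, ∃ c ∈ C, x = d * c := by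
    intro x hx
    have hxA : (⟨x, le_normalizer hx⟩ : N) ∈ A := mem_subgroupOf.2 hx
    rw [← hsup] at hxA
    obtain ⟨d, hd, c, hc, e⟩ := mem_sup_of_normal_right.1 hxA
    exact ⟨d, ⟨d, hd, rfl⟩, c, ⟨c, hc, rfl⟩, (congrArg Subtype.val e).symm⟩
  have hprod := LocalEven.ProductFusion.commutator_normalClosure_le S hDcl hCcl
    (fun a ha b hb => congrArg Subtype.val (hS.is_comm.comm ⟨a, hDS ha⟩ ⟨b, hCS hb⟩))
    (by rw [hD, hC, ← map_inf _ _ _ N.subtype_injective, hdis, Subgroup.map_bot])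
  rw [hO, le_bot_iff] at hprod
  have hDne : D ≠ ⊥ := by
    intro hbot
    have hcen : N ≤ centralizer ((S : Subgroup K) : Set K) := fun n hn => mem_centralizer_iff.2 fun m hm => by
      obtain ⟨d, hd, c, hc, rfl⟩ := hDC m hm
      rw [hbot, mem_bot] at hd
      obtain ⟨y, hy, rfl⟩ := hc
      rw [hd, one_mul]
      exact (congrArg Subtype.val (mem_center_iff.1 hy.1 ⟨n, hn⟩)).symm
    obtain ⟨P, M, hM, hcompl⟩ := Fusion.Abelian.npc_of_normalizer_le_centralizer S hcen
    have hModd : Odd (Nat.card ↥M) := by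
      rw [← hcompl.index_eq_card]
      exact Nat.not_even_iff_odd.1 fun h => P.not_dvd_index h.two_dvd
    haveI := hM
    have hMbot : M = ⊥ :=
      le_bot_iff.1 (hO ▸ Solvable.Cores.le_pPrimeCore (Nat.coprime_two_right.2 hModd))
    have hKcard := hcompl.card_mul
    rw [hMbot, card_bot, one_mul] at hKcard
    have h2 : IsPGroup 2 K := IsPGroup.of_card (p := 2) (n := (Nat.card K).factorization 2) (by
      rw [← hKcard]; exact P.card_eq_multiplicity.trans (by rw [hKcard]))
    haveI := (h2.to_subgroup J).isNilpotent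
    haveI : Group.IsSolvable ↥J := inferInstance
    exact hJna ⟨⟨IsSimpleGroup.comm_iff_isSolvable.2 inferInstance⟩⟩
  have hJD : J ≤ normalClosure (D : Set K) := by
    haveI : ((normalClosure (D : Set K)).subgroupOf J).Normal := inferInstance
    rcases (inferInstance : ((normalClosure (D : Set K)).subgroupOf J).Normal).eq_bot_or_eq_top with e | e
    · refine absurd (eq_bot_iff.2 fun x hx => ?_) hDne
      rw [subgroupOf_eq_bot] at e
      exact mem_bot.2 (disjoint_def.1 e (subset_normalClosure hx) (hDJ hx))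
    · exact subgroupOf_eq_top.1 e
  have hCJ : C ≤ centralizer (J : Set K) := fun c hc => mem_centralizer_iff.2 fun j hj =>
    commutatorElement_eq_one_iff_mul_comm.1 (mem_bot.1 (hprod ▸
      commutator_mem_commutator (hJD hj) (subset_normalClosure hc)))
  obtain ⟨d, hd, c, hc, e⟩ := hDC s hs
  exact ⟨d, ⟨hDS hd, hDJ hd⟩, c, hCS hc, hCJ hc, e⟩

variable {H : Type v} [Group H] [Finite H] (hO : Cfsg.pPrimeCore 2 H = ⊥) (R : Sylow 2 H)
  (hR : IsMulCommutative ↥(R : Subgroup H)) {J : Subgroup H} (hJ : Cfsg.IsComponent J)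
include hO R hR hJ

/-- The intersection with a component is a Sylow subgroup of it. -/
theorem exists_sylow_comp :
    ∃ T : Sylow 2 ↥J, (T : Subgroup ↥J) = ((R : Subgroup H) ⊓ J).subgroupOf J ∧
      IsMulCommutative ↥(T : Subgroup ↥J) := by
  haveI : Fact (Nat.Prime 2) := ⟨Nat.prime_two⟩
  refine ⟨Sylow.ofCard (((R : Subgroup H) ⊓ J).subgroupOf J) ?_, rfl, ?_⟩
  · rw [Nat.card_congr (subgroupOfEquivOfLe inf_le_right).toEquiv,
      LocalEvenB.SubnormalSylow.card_inf_sylow R hJ.1]
  · exact ⟨⟨fun a b => Subtype.ext (Subtype.ext (by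
      show ((a : J) : H) * ((b : J) : H) = ((b : J) : H) * ((a : J) : H)
      exact congrArg Subtype.val
        (hR.is_comm.comm ⟨((a : J) : H), (mem_subgroupOf.1 a.2).1⟩ ⟨((b : J) : H), (mem_subgroupOf.1 b.2).1⟩)))⟩⟩

theorem component_center : center ↥J = ⊥ := by
  haveI : Fact (Nat.Prime 2) := ⟨Nat.prime_two⟩
  obtain ⟨T, -, hTc⟩ := exists_sylow_comp hO R hR hJ
  have hperf : commutator ↥J = ⊤ := hJ.2.1.commutator_eq_top
  have hinf := Fusion.Abelian.inf_commutator_inf_center (T : Subgroup ↥J) hTc T.card_coprime_index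
  rw [hperf, inf_top_eq] at hinf
  have hle : (center ↥J).map J.subtype ≤ Cfsg.pCore 2 H := by
    rw [← Solvable.Cores.fittingSubgroup_eq_pCore 2 hO]
    refine Components.le_fittingSubgroup_of_subnormal
      (Components.IsSubnormal.map_subtype_normal hJ.1 (inferInstance : (center ↥J).Normal)) ?_
    haveI : IsMulCommutative ↥((center ↥J).map J.subtype) := ⟨⟨by
      rintro ⟨_, a, ha, rfl⟩ ⟨_, b, -, rfl⟩
      exact Subtype.ext (congrArg J.subtype (mem_center_iff.1 ha b).symm)⟩⟩
    exact Components.isNilpotent_of_isMulCommutative _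
  have h2 : IsPGroup 2 ↥(center ↥J) :=
    ((Solvable.Cores.isPGroup_pCore 2).to_le hle).of_equiv
      ((center ↥J).equivMapOfInjective _ J.subtype_injective).symm
  rw [eq_bot_iff, ← hinf]
  refine le_inf ?_ le_rfl
  have hsup := h2.to_sup_of_normal_left T.2 (H := center ↥J) (K := (T : Subgroup ↥J))
  exact le_sup_left.trans (T.3 hsup le_sup_right).le

theorem component_simple : IsSimpleGroup ↥J ∧ ¬ IsMulCommutative ↥J := by
  have hc := component_center hO R hR hJ
  haveI : IsSimpleGroup (↥J ⧸ center ↥J) := hJ.2.2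
  refine ⟨?_, Components.IsQuasisimple.not_isMulCommutative hJ.2⟩
  exact MulEquiv.isSimpleGroup ((QuotientGroup.quotientMulEquivOfEq hc).trans QuotientGroup.quotientBot).symm

theorem inf_centralizer_eq_bot : J ⊓ centralizer (J : Set H) = ⊥ := by
  refine eq_bot_iff.2 fun x hx => mem_bot.2 ?_
  have h : (⟨x, hx.1⟩ : J) ∈ center ↥J :=
    mem_center_iff.2 fun y => Subtype.ext (mem_centralizer_iff.1 hx.2 y y.2)
  rw [component_center hO R hR hJ, mem_bot] at h
  exact congrArg Subtype.val h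

theorem sylow_le_normalizer_comp : (R : Subgroup H) ≤ normalizer (J : Set H) := by
  intro r hr
  obtain ⟨T, hT, -⟩ := exists_sylow_comp hO R hR hJ
  haveI := (component_simple hO R hR hJ).1
  have hTne := exists_two_le (component_simple hO R hR hJ).2 T
  rw [mem_normalizer_iff_map_conj_eq]
  by_contra hne
  have hcomm := Components.IsComponent.le_centralizer_of_ne
    (Components.IsComponent.conj hJ r) hJ hne
  refine hTne (eq_bot_iff.2 fun t ht => mem_bot.2 (Subtype.ext ?_))
  rw [hT] at ht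
  have htR := (mem_subgroupOf.1 ht).1
  have hfix : r * (t : H) * r⁻¹ = t := by
    rw [show r * (t : H) = t * r from congrArg Subtype.val (hR.is_comm.comm ⟨r, hr⟩ ⟨t, htR⟩),
      mul_inv_cancel_right]
  have htC : (t : H) ∈ centralizer (J : Set H) := hcomm ⟨t, t.2, hfix⟩
  exact mem_bot.1 ((inf_centralizer_eq_bot hO R hR hJ).le ⟨t.2, htC⟩)

/-- The Sylow subgroup induces inner automorphisms on a component. -/
theorem component_split {s : H} (hs : s ∈ R) :
    ∃ d ∈ (R : Subgroup H) ⊓ J, ∃ c ∈ (R : Subgroup H),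
      c ∈ centralizer (J : Set H) ∧ s = d * c := by
  haveI : Fact (Nat.Prime 2) := ⟨Nat.prime_two⟩
  obtain ⟨hJs, hJna⟩ := component_simple hO R hR hJ
  set K := J ⊔ (R : Subgroup H) with hK
  have hRK : (R : Subgroup H) ≤ K := le_sup_right
  have hJK : J ≤ K := le_sup_left
  have hJn : (J.subgroupOf K).Normal := (normal_subgroupOf_iff_le_normalizer hJK).2
    (sup_le le_normalizer (sylow_le_normalizer_comp hO R hR hJ))
  haveI := hJn
  let eJ := subgroupOfEquivOfLe hJK
  haveI := hJs
  have hJs' : IsSimpleGroup ↥(J.subgroupOf K) := MulEquiv.isSimpleGroup eJ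
  have hJna' : ¬ IsMulCommutative ↥(J.subgroupOf K) := fun h => hJna
    ⟨⟨fun a b => eJ.symm.injective (by rw [map_mul, map_mul]; exact h.is_comm.comm _ _)⟩⟩
  have hRc : IsMulCommutative ↥((R.subtype hRK : Sylow 2 ↥K) : Subgroup ↥K) :=
    ⟨⟨fun a b => Subtype.ext (Subtype.ext (by
      show ((a : K) : H) * ((b : K) : H) = ((b : K) : H) * ((a : K) : H)
      exact congrArg Subtype.val
        (hR.is_comm.comm ⟨((a : K) : H), a.2⟩ ⟨((b : K) : H), b.2⟩)))⟩⟩
  have hsup : J.subgroupOf K ⊔ ((R.subtype hRK : Sylow 2 ↥K) : Subgroup ↥K) = ⊤ := by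
    rw [Sylow.coe_subtype, ← subgroupOf_sup hJK hRK, subgroupOf_self]
  -- the odd core of `J R`
  have hOK : Cfsg.oddCore ↥K = ⊥ := by
    set M := Cfsg.oddCore ↥K
    have hModd : (Nat.card ↥M).Coprime 2 := Solvable.Cores.coprime_card_pPrimeCore 2
    haveI : M.Normal := Involution.ZStar.oddCore_normal
    haveI := hJs'
    have hdis : M.subgroupOf (J.subgroupOf K) = ⊥ := by
      rcases (inferInstance : (M.subgroupOf (J.subgroupOf K)).Normal).eq_bot_or_eq_top with e | e
      · exact e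
      · have hle := subgroupOf_eq_top.1 e
        have hodd : Odd (Nat.card ↥(J.subgroupOf K)) :=
          (Nat.coprime_two_right.1 hModd).of_dvd_nat (card_dvd_of_le hle)
        haveI : Group.IsSolvable ↥(J.subgroupOf K) := Cfsg.Agent.S0205.result hodd
        exact absurd ⟨⟨IsSimpleGroup.comm_iff_isSolvable.2 inferInstance⟩⟩ hJna'
    refine eq_bot_iff.2 fun m hm => ?_
    have hmJ : m ∈ J.subgroupOf K := by
      obtain ⟨j, hj, u, hu, e⟩ := mem_sup_of_normal_left.1 (hsup.ge (mem_top m))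
      have h1 : QuotientGroup.mk' (J.subgroupOf K) m = QuotientGroup.mk' (J.subgroupOf K) u := by
        rw [← e, map_mul, show QuotientGroup.mk' (J.subgroupOf K) j = 1 from (QuotientGroup.eq_one_iff j).2 hj,
          one_mul]
      obtain ⟨k, hk⟩ := (R.subtype hRK : Sylow 2 ↥K).2 ⟨u, hu⟩
      refine (QuotientGroup.eq_one_iff m).1 (orderOf_eq_one_iff.1
        (Nat.eq_one_of_dvd_coprimes (hModd.pow_right k) ((orderOf_map_dvd (QuotientGroup.mk' _) m).trans
          (Subgroup.orderOf_dvd_natCard M hm)) ?_))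
      show orderOf (QuotientGroup.mk' (J.subgroupOf K) m) ∣ 2 ^ k
      rw [h1]
      exact (orderOf_map_dvd _ u).trans (orderOf_dvd_of_pow_eq_one (congrArg Subtype.val hk))
    rw [subgroupOf_eq_bot] at hdis
    exact mem_bot.2 (disjoint_def.1 hdis hm hmJ)
  obtain ⟨d, hd, c, hc, hcJ, e⟩ := exists_inner_split hOK (R.subtype hRK) hRc (J.subgroupOf K)
    hJs' hJna' hsup (s := ⟨s, hRK hs⟩) (mem_subgroupOf.2 hs)
  exact ⟨d, ⟨mem_subgroupOf.1 hd.1, mem_subgroupOf.1 hd.2⟩, c, mem_subgroupOf.1 hc,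
    mem_centralizer_iff.2 fun j hj => congrArg Subtype.val
      (mem_centralizer_iff.1 hcJ ⟨j, hJK hj⟩ (mem_subgroupOf.2 hj)), congrArg Subtype.val e⟩

end CfsgLib.WalterRank
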