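import Cfsg.Agent.Lib.WalterRank.Residual
import Cfsg.Agent.Lib.GWKlein.Consumers.AbelianReduce

/-!
# At least three blocks: the contradiction

The completion of the functor is the same subgroup for all pairs of blocks; if it is not trivial
its normaliser, otherwise the normaliser of the product of the residuals of the `C(others U l)`,
which then commute, contains all centralisers of involutions of `S`.
-/

set_option autoImplicit false
set_option linter.unusedSectionVars false
set_option linter.style.haveILetI false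

universe u

namespace CfsgLib.WalterRank

open Subgroup
open CfsgLib.Components.CoreSeparated (img qmap)
open CfsgLib.LocalEven.ProductFusion (oC oc theta1)
open scoped commutatorElement

variable {G : Type u} [Group G] [Finite G] {S : Subgroup G} {ι : Type*} {U : ι → Subgroup G}

theorem center_eq_bot (St : Setting S) : center G = ⊥ := by
  haveI := St.simple
  rcases Subgroup.Normal.eq_bot_or_eq_top (inferInstance : (center G).Normal) with h | h
  · exact h
  · refine absurd ⟨⟨fun a b => ?_⟩⟩ St.noncomm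
    have hb : b ∈ center G := by rw [h]; exact mem_top b
    exact mem_center_iff.1 hb a

namespace Blocks

variable [Fact (Nat.Prime 2)]

theorem ne_bot_others (B : Blocks S U) (l : ι) : others U l ≠ ⊥ := fun e => by
  obtain ⟨a, hal, -⟩ := B.third l l
  obtain ⟨x, hx, hx1⟩ := B.exists_ne_one a
  have := B.le_others hal hx
  rw [e, Subgroup.mem_bot] at this
  exact hx1 this

theorem ne_top_normalizer (St : Setting S) {W : Subgroup G} (hW : W ≠ ⊥) {a : G} (ha : a ∈ S)
    (ha1 : a ≠ 1) (hodd : Odd (Nat.card W)) : normalizer (W : Set G) ≠ ⊤ := by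
  intro h
  haveI := St.simple
  haveI : W.Normal := normalizer_eq_top_iff.1 h
  rcases Subgroup.Normal.eq_bot_or_eq_top (inferInstance : W.Normal) with e | e
  · exact hW e
  · have h2 := LocalEven.ProductFusion.odd_orderOf hodd (show a ∈ W by rw [e]; exact mem_top a)
    rw [St.orderOf_two ha ha1] at h2
    exact absurd h2 (by norm_num)

/-- **The completion is trivial.** -/
theorem rab_eq_bot (B : Blocks S U) (St : Setting S) {i j : ι} (hij : i ≠ j) {x y : G}
    (hx : x ∈ U i) (hx1 : x ≠ 1) (hy : y ∈ U j) (hy1 : y ≠ 1) : rab x y = ⊥ := by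
  by_contra hW
  set W := rab x y with hWdef
  have hodd : Odd (Nat.card W) := by
    obtain ⟨F, E, h, a, -, b, -⟩ := B.exists_frame St hij hx hx1 hx hx1 hy hy1 hy hy1
    rw [hWdef, ← h.clo_eq B St a hx1 b hy1]
    refine Nat.not_even_iff_odd.1 fun he => ?_
    exact (Components.SFT.solvable_complete (h.elem_sup B St) (h.card_sup B St)
      (h.solvable B St)).1.2.1 he.two_dvd
  have hcent : ∀ (D : Subgroup G) (a b : ι), a ≠ b → (∃ p ∈ U a, p ≠ 1 ∧ p ∈ D) →
      (∃ q ∈ U b, q ≠ 1 ∧ q ∈ D) → centralizer (D : Set G) ≤ normalizer (W : Set G) := by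
    rintro D a b hab ⟨p, hp, hp1, hpD⟩ ⟨q, hq, hq1, hqD⟩ g hg
    rw [hWdef, B.rab_congr St hij hab hx hx1 hy hy1 hp hp1 hq hq1]
    exact mem_normalizer_rab (mem_centralizer_iff.1 hg p hpD).symm
      (mem_centralizer_iff.1 hg q hqD).symm
  have hS : normalizer (S : Set G) ≤ normalizer (W : Set G) := fun g hg =>
    LocalEven.ProductFusion.mem_normalizer_of_conj fun v hv => by
      obtain ⟨a, ha⟩ := B.conj_mem hg i
      obtain ⟨b, hb⟩ := B.conj_mem hg j
      have hab : a ≠ b := fun e => hij (B.eq_of_mem hx ((hb x).2 (e ▸ (ha x).1 hx)) hx1)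
      have hne : ∀ z : G, z ≠ 1 → g * z * g⁻¹ ≠ 1 := fun z hz e => hz (conj_eq_one_iff.1 e)
      rw [hWdef, B.rab_congr St hij hab hx hx1 hy hy1 ((ha x).1 hx) (hne x hx1) ((hb y).1 hy)
        (hne y hy1)]
      exact conj_mem_rab hv
  have hres : ∀ l, res (centralizer (others U l : Set G)) ≤ normalizer (W : Set G) := fun l => by
    obtain ⟨a, hal, -⟩ := B.third l l
    obtain ⟨b, hbl, hba⟩ := B.third l a
    obtain ⟨p, hp, hp1⟩ := B.exists_ne_one a
    obtain ⟨q, hq, hq1⟩ := B.exists_ne_one b
    exact (res_le _).trans (hcent _ a b hba.symm ⟨p, hp, hp1, B.le_others hal hp⟩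
      ⟨q, hq, hq1, B.le_others hbl hq⟩)
  refine B.false_of_cent_le St (M := normalizer (W : Set G))
    (ne_top_normalizer St hW (B.le i hx) hx1 hodd) (Subgroup.le_normalizer.trans hS) fun v hv hv1 => ?_
  exact B.cent_le_of St hS hv hv1 (B.oC_le_of St hv hv1 fun D _ hD =>
    hcent D i j hij (B.exists_mem_hyperplane hD i) (B.exists_mem_hyperplane hD j)) hres

/-- `O(C(y))` is centralised by all blocks but that of `y`. -/
theorem oC_le_others (B : Blocks S U) (St : Setting S) {n : ι} {y : G} (hy : y ∈ U n) (hy1 : y ≠ 1) :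
    oC y ≤ centralizer (others U n : Set G) := by
  rw [le_centralizer_iff]
  refine iSup_le fun m x hx => mem_centralizer_iff.2 fun v hv => ?_
  by_cases hx1 : x = 1
  · simp [hx1]
  have h := B.rab_eq_bot St m.2 hx hx1 hy hy1
  have h1 : ⁅oC y, zpowers x⁆ = ⊥ := eq_bot_iff.2 (h ▸
    (le_sup_left : _ ≤ theta1 y x).trans (le_sup_of_le_left le_sup_right))
  exact (commutatorElement_eq_one_iff_commute.1 (Subgroup.mem_bot.1
    (h1 ▸ commutator_mem_commutator hv (mem_zpowers x)))).eq

/-- The residual of the block `l` centralises `O(C(y))`, `y` in another block. -/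
theorem res_le_centralizer_oC (B : Blocks S U) (St : Setting S) {l n : ι} (hln : l ≠ n) {y : G}
    (hy : y ∈ U n) (hy1 : y ≠ 1) :
    res (centralizer (others U l : Set G)) ≤ centralizer (oC y : Set G) := by
  refine B.res_le_of St ((B.le_others hln).trans (le_centralizer_iff.1 (B.oC_le_others St hy hy1))) ?_
  intro g hg
  exact Components.GlaubermanSylow.normalizer_le_normalizer_centralizer _ (LocalEven.ProductFusion.mem_normalizer_oC_of_commute
    (mem_centralizer_iff.1 hg y (B.le_others hln.symm hy)).symm)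

theorem odd_index_centralizer (_B : Blocks S U) (St : Setting S) :
    Odd ((centralizer (S : Set G)).subgroupOf (normalizer (S : Set G))).index := by
  obtain ⟨P, hP⟩ := St.sylow
  refine Nat.not_even_iff_odd.1 fun he => P.not_dvd_index (he.two_dvd.trans ?_)
  rw [hP]
  refine (relIndex_dvd_of_le_left _ (St.le_centralizer le_rfl)).trans ?_
  exact relIndex_dvd_index_of_le Subgroup.le_normalizer

/-- An element of `N(S)` does not exchange two blocks. -/
theorem not_swap (B : Blocks S U) (St : Setting S) {g : G} (hg : g ∈ normalizer (S : Set G))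
    {l m : ι} (hlm : l ≠ m) (h1 : ∀ x, x ∈ U l ↔ g * x * g⁻¹ ∈ U m)
    (h2 : ∀ x, x ∈ U m ↔ g * x * g⁻¹ ∈ U l) : False := by
  set N := normalizer (S : Set G)
  haveI : ((centralizer (S : Set G)).subgroupOf N).Normal :=
    normal_subgroupOf_of_le_normalizer (Components.GlaubermanSylow.normalizer_le_normalizer_centralizer _)
  have hk := Subgroup.pow_index_mem ((centralizer (S : Set G)).subgroupOf N) (⟨g, hg⟩ : N)
  obtain ⟨i, hi⟩ := B.odd_index_centralizer St
  rw [hi, mem_subgroupOf] at hk
  have key : ∀ i : ℕ, ∀ x, x ∈ U l ↔ g ^ (2 * i) * x * (g ^ (2 * i))⁻¹ ∈ U l := by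
    intro i
    induction i with
    | zero => simp
    | succ i ih =>
      intro x
      rw [ih x, h1, h2, show g * (g * (g ^ (2 * i) * x * (g ^ (2 * i))⁻¹) * g⁻¹) * g⁻¹ =
        g ^ (2 * (i + 1)) * x * (g ^ (2 * (i + 1)))⁻¹ by
        rw [show 2 * (i + 1) = 2 * i + 1 + 1 by ring, pow_succ', pow_succ']; group]
  obtain ⟨x, hx, hx1⟩ := B.exists_ne_one l
  have h3 : g * (g ^ (2 * i) * x * (g ^ (2 * i))⁻¹) * g⁻¹ ∈ U m := (h1 _).1 ((key i x).1 hx)
  have h4 : g ^ (2 * i + 1) * x * (g ^ (2 * i + 1))⁻¹ = x := by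
    rw [← mem_centralizer_iff.1 (show g ^ (2 * i + 1) ∈ centralizer (S : Set G) from hk) x
      (B.le l hx), mul_inv_cancel_right]
  rw [show g * (g ^ (2 * i) * x * (g ^ (2 * i))⁻¹) * g⁻¹ = g ^ (2 * i + 1) * x * (g ^ (2 * i + 1))⁻¹ by
    rw [pow_succ']; group, h4] at h3
  exact hlm (B.eq_of_mem hx h3 hx1)

/-- The blocks other than `l` and `m`. -/
def rest (U : ι → Subgroup G) (l m : ι) : Subgroup G :=
  ⨆ k : {k : ι // k ≠ l ∧ k ≠ m}, U k

theorem rest_le (B : Blocks S U) (l m : ι) : rest U l m ≤ S := iSup_le fun k => B.le k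

theorem rest_le_others_left (B : Blocks S U) (l m : ι) : rest U l m ≤ others U l :=
  iSup_le fun k => B.le_others k.2.1

theorem rest_le_others_right (B : Blocks S U) (l m : ι) : rest U l m ≤ others U m :=
  iSup_le fun k => B.le_others k.2.2

/-- `N(S) ∩ C(rest U l m)` fixes the blocks `l` and `m`. -/
theorem fix_block (B : Blocks S U) (St : Setting S) {l m : ι} (hlm : l ≠ m) {g : G}
    (hg : g ∈ normalizer (S : Set G)) (hg' : g ∈ centralizer (rest U l m : Set G)) :
    ∀ x ∈ U l, g * x * g⁻¹ ∈ U l := by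
  have hfix : ∀ k, k ≠ l → k ≠ m → ∀ w ∈ U k, g * w * g⁻¹ = w := fun k hkl hkm w hw => by
    rw [← mem_centralizer_iff.1 hg' w (le_iSup (fun k : {k : ι // k ≠ l ∧ k ≠ m} => U k)
      ⟨k, hkl, hkm⟩ hw), mul_inv_cancel_right]
  have himg : ∀ a b : ι, (a = l ∨ a = m) → (∀ x, x ∈ U a ↔ g * x * g⁻¹ ∈ U b) → b = l ∨ b = m := by
    intro a b ha hab
    by_contra hb
    push Not at hb
    obtain ⟨w, hw, hw1⟩ := B.exists_ne_one b
    have hwa : w ∈ U a := (hab w).2 (by rw [hfix b hb.1 hb.2 w hw]; exact hw)
    have hba := B.eq_of_mem hw hwa hw1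
    rcases ha with rfl | rfl
    · exact hb.1 hba
    · exact hb.2 hba
  obtain ⟨b, hb⟩ := B.conj_mem hg l
  obtain ⟨c, hc⟩ := B.conj_mem hg m
  rcases himg l b (Or.inl rfl) hb with rfl | rfl
  · exact fun x hx => (hb x).1 hx
  exfalso
  rcases himg b c (Or.inr rfl) hc with rfl | rfl
  · exact B.not_swap St hg hlm hb hc
  · obtain ⟨w, hw, hw1⟩ := B.exists_ne_one l
    exact hlm (B.eq_of_mem hw ((hc w).2 ((hb w).1 hw)) hw1)

theorem stronglyClosed_block (B : Blocks S U) (St : Setting S) {H : Subgroup G} (hH : S ≤ H)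
    (P : Sylow 2 H) (hP : (P : Subgroup H) = S.subgroupOf H) {k : ι}
    (hfix : ∀ g ∈ normalizer (S : Set G), g ∈ H → ∀ x ∈ U k, g * x * g⁻¹ ∈ U k) :
    Cfsg.IsStronglyClosed ((U k).subgroupOf H) (P : Subgroup H) := by
  refine ⟨hP ▸ comap_mono (B.le k), fun x hx g hxP => ?_⟩
  rw [hP] at hxP
  have hle : ∀ a : H, (a : G) ∈ S → (P : Subgroup H) ≤ centralizer ({a} : Set H) := fun a ha b hb =>
    mem_centralizer_singleton_iff.2 (Subtype.ext
      (St.commute (show (b : G) ∈ S from mem_subgroupOf.1 (hP ▸ hb)) ha).eq)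
  obtain ⟨n, hn, hnx⟩ := Involution.UnitarySylowGroup.fusion P
    (hle x (B.le k (mem_subgroupOf.1 hx))) (hle _ (mem_subgroupOf.1 hxP)) (g := g) rfl
  rw [← hnx]
  refine mem_subgroupOf.2 (hfix n (LocalEven.ProductFusion.mem_normalizer_of_conj fun s hs => ?_) n.2 x
    (mem_subgroupOf.1 hx))
  rw [hP] at hn
  exact (mem_normalizer_iff.1 hn ⟨s, hH hs⟩).1 (mem_subgroupOf.2 hs)

/-- The image of a block in `C(rest U l m)` centralises its odd core. -/
theorem commutator_oc_rest (B : Blocks S U) (St : Setting S) {l m : ι} (hlm : l ≠ m) :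
    ⁅oc (centralizer (rest U l m : Set G)), U l⁆ = ⊥ := by
  set T := rest U l m
  set H := centralizer (T : Set G)
  set Q := oc H
  have hSH : S ≤ H := St.le_centralizer (B.rest_le l m)
  have hUH : U l ≤ H := (B.le l).trans hSH
  obtain ⟨n, hnl, hnm⟩ := B.third l m
  obtain ⟨y, hy, hy1⟩ := B.exists_ne_one n
  have hyS := B.le n hy
  have hyT : y ∈ T := le_iSup (fun k : {k : ι // k ≠ l ∧ k ≠ m} => U k) ⟨n, hnl, hnm⟩ hy
  have hQn : H ≤ normalizer (Q : Set G) := LocalEven.ProductFusion.le_normalizer_oc H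
  have hQH : Q ≤ H := LocalEven.ProductFusion.oc_le H
  have hHy : H ≤ cent y := centralizer_le (Set.singleton_subset_iff.2 hyT)
  have hQodd := LocalEven.ProductFusion.odd_card_oc H
  have hT2 : IsPGroup 2 T := St.isPGroup.to_le (B.rest_le l m)
  have hTC : T ≤ cent y := (B.rest_le l m).trans (St.le_cent hyS)
  have hY : ⁅Q, U l⁆ ≤ Q := Components.commutator_le_left_of_le_normalizer (hUH.trans hQn)
  have hQco : (Nat.card Q).Coprime 2 := Nat.coprime_two_right.2 hQodd
  have hO : ⁅Q, U l⁆ ≤ oC y := by
    refine Components.CoreSeparated.mem_core_of_img_eq_bot (hY.trans (hQH.trans hHy)) ?_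
    refine Components.CoreSeparated.eq_bot_of_centralizes Components.pPrimeCore_quotient_eq_bot
      (Components.CoreSeparated.img_isPGroup hT2)
      (Components.CoreSeparated.img_coprime (hQH.trans hHy) hQco)
      (Components.CoreSeparated.img_le_centralizer (R := T) hQH)
      (Components.CoreSeparated.centralizer_img_le_normalizer hT2 hTC fun g hg => hQn hg.1)
      (Components.CoreSeparated.img_mono hY) fun J hJ => ?_
    obtain ⟨k, hk⟩ := B.sep y hyS hy1 J hJ
    by_cases hk2 : k = l ∨ k = m
    · refine (Components.CoreSeparated.img_mono hY).trans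
        (Components.CoreSeparated.centralizes_of_le_centralizer Components.pPrimeCore_quotient_eq_bot
          (Components.CoreSeparated.img_coprime (hQH.trans hHy) hQco)
          (Components.CoreSeparated.centralizer_img_le_normalizer hT2 hTC fun g hg => hQn hg.1) hJ
          (le_centralizer_iff.1 ((Components.CoreSeparated.img_mono ?_).trans hk)))
      rcases hk2 with rfl | rfl
      · exact B.rest_le_others_left _ _
      · exact B.rest_le_others_right _ _
    · push Not at hk2
      refine (Components.CoreSeparated.img_commutator_le (hQH.trans hHy) (hUH.trans hHy)).trans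
        (Components.CoreSeparated.commutator_le_centralizer ?_
          ((Components.CoreSeparated.img_mono (B.le_others hk2.1.symm)).trans hk))
      exact Components.CoreSeparated.img_data hT2 hTC (hQH.trans hHy) hQco hQH
        (fun g hg => hQn hg.1) hJ
  have h2 : ⁅⁅Q, U l⁆, U l⁆ = ⊥ := commutator_eq_bot_iff_le_centralizer.2
    (hO.trans ((B.oC_le_others St hy hy1).trans (centralizer_le (B.le_others hnl.symm))))
  have hU2 : IsPGroup 2 (U l) := St.isPGroup.to_le (B.le l)
  rwa [Coprime.commutator_commutator_self (hUH.trans hQn)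
    (LocalEven.ProductFusion.coprime_of_two_group hU2 hQodd)
    (Or.inl (LocalEven.ProductFusion.isSolvable_of_two_group hU2))] at h2

theorem rest_comm (l m : ι) : rest U l m = rest U m l :=
  le_antisymm (iSup_le fun k => le_iSup (fun k : {k : ι // k ≠ m ∧ k ≠ l} => U k) ⟨k, k.2.2, k.2.1⟩)
    (iSup_le fun k => le_iSup (fun k : {k : ι // k ≠ l ∧ k ≠ m} => U k) ⟨k, k.2.2, k.2.1⟩)

/-- **The residuals of two blocks commute.** -/
theorem res_commute (B : Blocks S U) (St : Setting S) {l m : ι} (hlm : l ≠ m) :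
    ⁅res (centralizer (others U m : Set G)), res (centralizer (others U l : Set G))⁆ = ⊥ := by
  set T := rest U l m with hT
  set H := centralizer (T : Set G) with hH
  have hSH : S ≤ H := St.le_centralizer (B.rest_le l m)
  obtain ⟨P, hP⟩ := B.sylow_of_le St hSH
  have hl := B.stronglyClosed_block St hSH P hP (k := l) fun g hg hgH => B.fix_block St hlm hg hgH
  have hm := B.stronglyClosed_block St hSH P hP (k := m) fun g hg hgH =>
    B.fix_block St hlm.symm hg (by rw [rest_comm]; exact hgH)
  have hprod := LocalEven.ProductFusion.commutator_normalClosure_le P hl hm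
    (fun a ha b hb => Subtype.ext (St.commute (B.le l (mem_subgroupOf.1 ha))
      (B.le m (mem_subgroupOf.1 hb))).eq)
    (eq_bot_iff.2 fun x hx => Subgroup.mem_bot.2 (Subtype.ext (by
      by_contra h1
      exact hlm (B.eq_of_mem (mem_subgroupOf.1 hx.1) (mem_subgroupOf.1 hx.2) h1))))
  have hres : ∀ k, T ≤ others U k →
      res (centralizer (others U k : Set G)) ≤
        (normalClosure ((U k).subgroupOf H : Set H)).map H.subtype := by
    intro k hk
    refine B.res_le_of St (fun x hx => ⟨⟨x, hSH (B.le k hx)⟩,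
      subset_normalClosure (mem_subgroupOf.2 hx), rfl⟩) ?_
    intro g hg
    have hgH : g ∈ H := centralizer_le hk hg
    refine LocalEven.ProductFusion.mem_normalizer_of_conj ?_
    rintro _ ⟨w, hw, rfl⟩
    exact ⟨⟨g, hgH⟩ * w * ⟨g, hgH⟩⁻¹, normalClosure_normal.conj_mem w hw _, rfl⟩
  set Pl := res (centralizer (others U l : Set G))
  set Pm := res (centralizer (others U m : Set G))
  have hX : ⁅Pl, Pm⁆ ≤ oc H := by
    refine (commutator_mono (hres l (B.rest_le_others_left l m))
      (hres m (B.rest_le_others_right l m))).trans ?_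
    rw [← map_commutator]
    exact map_mono hprod
  have hcl : Pl ≤ centralizer (oc H : Set G) := by
    refine B.res_le_of St (le_centralizer_iff.1
      (commutator_eq_bot_iff_le_centralizer.1 (B.commutator_oc_rest St hlm))) fun g hg => ?_
    exact Components.GlaubermanSylow.normalizer_le_normalizer_centralizer _
      (LocalEven.ProductFusion.le_normalizer_oc H (centralizer_le (B.rest_le_others_left l m) hg))
  refine Components.commutator_eq_bot_of_perfect (Subgroup.isPerfect_iff.2 (res_perfect _)) ?_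
  rw [commutator_comm Pm Pl]
  exact commutator_eq_bot_iff_le_centralizer.2 (hX.trans (le_centralizer_iff.1 hcl))

/-- **At least three blocks are impossible.** -/
theorem false_of_blocks (B : Blocks S U) (St : Setting S) : False := by
  set P := fun l => res (centralizer (others U l : Set G)) with hPdef
  set R := ⨆ l, P l with hR
  set M := normalizer (R : Set G) with hM
  have hPR : ∀ l, P l ≤ R := fun l => le_iSup P l
  have hconj : ∀ g : G, (∀ l, ∀ x ∈ P l, g * x * g⁻¹ ∈ R) → g ∈ M := fun g h =>
    LocalEven.ProductFusion.mem_normalizer_of_conj (LocalEven.ProductFusion.conj_mem_iSup h)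
  have hS : normalizer (S : Set G) ≤ M := by
    intro g hg
    refine hconj g fun l x hx => ?_
    obtain ⟨j, hj⟩ := B.conj_mem hg l
    refine hPR j (conj_mem_res (fun p hp => ?_) x hx)
    rw [mem_centralizer_iff]
    have hle : others U j ≤ (others U l).comap (MulAut.conj g⁻¹).toMonoidHom := by
      refine iSup_le fun k w hw => ?_
      obtain ⟨a, ha⟩ := B.conj_mem (inv_mem hg) (k : ι)
      have hw' := (ha w).1 hw
      by_cases hw1 : w = 1
      · rw [hw1]; exact one_mem _
      refine B.le_others (fun e => k.2 ?_) hw'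
      subst e
      refine B.eq_of_mem hw ?_ hw1
      have := (hj _).1 hw'
      rwa [show g * (g⁻¹ * w * g⁻¹⁻¹) * g⁻¹ = w by group] at this
    intro w hw
    have h1 : g⁻¹ * w * g ∈ others U l := by simpa using hle hw
    have h2 : (g⁻¹ * w * g) * p = p * (g⁻¹ * w * g) := mem_centralizer_iff.1 hp _ h1
    calc w * (g * p * g⁻¹) = g * ((g⁻¹ * w * g) * p) * g⁻¹ := by group
      _ = g * (p * (g⁻¹ * w * g)) * g⁻¹ := by rw [h2]
      _ = g * p * g⁻¹ * w := by group
  have hres : ∀ l, P l ≤ M := fun l => (hPR l).trans Subgroup.le_normalizer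
  have hblock : ∀ n, ∀ y ∈ U n, y ≠ 1 → cent y ≤ M := by
    intro n y hy hy1
    refine B.cent_le_of St hS (B.le n hy) hy1 (fun g hg => hconj g fun l x hx => ?_) hres
    by_cases hln : l = n
    · subst hln
      exact hPR l (LocalEven.ProductFusion.conj_mem_of_mem_normalizer
        (le_normalizer_res (Subgroup.le_normalizer (B.oC_le_others St hy hy1 hg))) hx)
    · have hc := mem_centralizer_iff.1 (B.res_le_centralizer_oC St hln hy hy1 hx) g hg
      rw [hc, mul_inv_cancel_right]
      exact hPR l hx
  have hall : ∀ v ∈ S, v ≠ 1 → cent v ≤ M := fun v hv hv1 => by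
    refine B.cent_le_of St hS hv hv1 (B.oC_le_of St hv hv1 fun D _ hD => ?_) hres
    obtain ⟨n⟩ := B.inhabited
    obtain ⟨y, hy, hy1, hyD⟩ := B.exists_mem_hyperplane hD n
    exact (centralizer_le (Set.singleton_subset_iff.2 hyD)).trans (hblock n y hy hy1)
  refine B.false_of_cent_le St (M := M) ?_ (Subgroup.le_normalizer.trans hS) hall
  intro htop
  haveI := St.simple
  haveI : R.Normal := normalizer_eq_top_iff.1 htop
  rcases Subgroup.Normal.eq_bot_or_eq_top (inferInstance : R.Normal) with h | h
  · obtain ⟨v, hv, hv1, J, hJ⟩ := B.exists_comp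
    obtain ⟨l, hl⟩ := B.sep v hv hv1 J hJ
    have h1 := B.comp_le_res St hv (B.others_le l) hJ hl
    rw [show res (centralizer (others U l : Set G)) = ⊥ from le_bot_iff.1 (h ▸ hPR l),
      bot_subgroupOf, Subgroup.map_bot, le_bot_iff] at h1
    exact Components.IsComponent.ne_bot hJ h1
  · have hn : ∀ l, (P l).Normal := fun l => by
      refine normalizer_eq_top_iff.1 (eq_top_iff.2 (h ▸ iSup_le fun k => ?_))
      by_cases hkl : k = l
      · subst hkl; exact Subgroup.le_normalizer
      · exact (commutator_eq_bot_iff_le_centralizer.1 (B.res_commute St (Ne.symm hkl))).trans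
          (centralizer_le_normalizer _)
    have hP1 : ∀ l, P l = ⊥ := fun l => by
      rcases Subgroup.Normal.eq_bot_or_eq_top (hn l) with e | e
      · exact e
      · refine absurd ?_ (B.ne_bot_others l)
        rw [← le_bot_iff, ← center_eq_bot St]
        intro t ht
        refine mem_center_iff.2 fun g => ?_
        exact (mem_centralizer_iff.1 (res_le _ (show g ∈ P l by rw [e]; exact mem_top g)) t ht).symm
    have h0 : R = ⊥ := le_bot_iff.1 (iSup_le fun l => (hP1 l).le)
    rw [h] at h0
    exact top_ne_bot h0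

end Blocks

end CfsgLib.WalterRank
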