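import Cfsg.Agent.Lib.WalterRank.End

/-!
# From components to blocks

A block is a `compU` with minimal `compT`.  The module statement makes every `compT` larger than
its `compU`, so two blocks meet in the centraliser of an element of both `compT`s and commute.
-/

set_option autoImplicit false
set_option linter.unusedSectionVars false
set_option linter.style.haveILetI false

universe u

namespace CfsgLib.WalterRank

open Subgroup
open CfsgLib.Components.CoreSeparated (img qmap)

variable {G : Type u} [Group G]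

/-- `N(S)` is irreducible on `S`. -/
def Irreducible (S : Subgroup G) : Prop :=
  ∀ X : Subgroup G, X ≤ S → normalizer (S : Set G) ≤ normalizer (X : Set G) → X = ⊥ ∨ X = S

/-- `(v, J)` is a component. -/
structure IsComp (S : Subgroup G) (v : G) (J : Subgroup (CBar v)) : Prop where
  mem : v ∈ S
  ne : v ≠ 1
  comp : Cfsg.IsComponent J

/-- No component has a smaller `compT`. -/
structure IsMinComp (S : Subgroup G) (v : G) (J : Subgroup (CBar v)) : Prop extends IsComp S v J where
  min : ∀ w : G, ∀ J' : Subgroup (CBar w), IsComp S w J' →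
    compT S w J' ≤ compT S v J → compT S w J' = compT S v J

/-- The blocks. -/
def IsBlock (S X : Subgroup G) : Prop :=
  ∃ (v : G) (J : Subgroup (CBar v)), IsMinComp S v J ∧ compU S v J = X

theorem cent_map_conj (g v : G) :
    (cent v).map (MulAut.conj g).toMonoidHom = cent (g * v * g⁻¹) := by
  refine le_antisymm (map_le_iff_le_comap.2 fun x hx => conj_mem_cent hx) fun x hx => ?_
  refine ⟨g⁻¹ * x * g, ?_, by simp [mul_assoc]⟩
  have := conj_mem_cent (g := g⁻¹) hx
  rwa [inv_inv, show g⁻¹ * (g * v * g⁻¹) * g = v by group] at this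

/-- Conjugation of `C(v)` onto `C(g v g⁻¹)`. -/
noncomputable def conjCent (g v : G) : cent v ≃* cent (g * v * g⁻¹) :=
  ((cent v).equivMapOfInjective _ (MulAut.conj g).injective).trans
    (MulEquiv.subgroupCongr (cent_map_conj g v))

theorem coe_conjCent (g v : G) (x : cent v) : (conjCent g v x : G) = g * x * g⁻¹ := rfl

variable [Finite G]

theorem map_pPrimeCore_equiv {A B : Type*} [Group A] [Finite A] [Group B] (e : A ≃* B) :
    (Cfsg.pPrimeCore 2 A).map e.toMonoidHom ≤ Cfsg.pPrimeCore 2 B := by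
  haveI : ((Cfsg.pPrimeCore 2 A).map e.toMonoidHom).Normal :=
    Subgroup.Normal.map inferInstance _ e.surjective
  refine Solvable.Cores.le_pPrimeCore ?_
  rw [card_map_of_injective e.injective]
  exact Solvable.Cores.coprime_card_pPrimeCore 2

/-- The induced isomorphism of the quotients. -/
noncomputable def conjBar (g v : G) : CBar v ≃* CBar (g * v * g⁻¹) :=
  QuotientGroup.congr _ _ (conjCent g v) (le_antisymm (map_pPrimeCore_equiv _) fun x hx => by
    refine ⟨(conjCent g v).symm x, ?_, (conjCent g v).apply_symm_apply x⟩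
    exact map_pPrimeCore_equiv (conjCent g v).symm ⟨x, hx, rfl⟩)

theorem conjBar_mk (g v : G) (x : cent v) :
    conjBar g v (qmap (cent v) x) = qmap (cent (g * v * g⁻¹)) (conjCent g v x) := rfl

variable {S : Subgroup G}

theorem map_conj_eq_of_normalizer {g : G} (hg : g ∈ normalizer (S : Set G)) :
    S.map (MulAut.conj g).toMonoidHom = S :=
  mem_normalizer_iff_map_conj_eq.1 hg

theorem mem_compU {v x : G} {J : Subgroup (CBar v)} :
    x ∈ compU S v J ↔ x ∈ S ∧ ∃ hx : x ∈ cent v, qmap (cent v) ⟨x, hx⟩ ∈ J := by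
  constructor
  · rintro ⟨hxS, ⟨y, hy⟩, hJ, rfl⟩; exact ⟨hxS, hy, hJ⟩
  · rintro ⟨hxS, hx, hJ⟩; exact ⟨hxS, ⟨x, hx⟩, hJ, rfl⟩

theorem mem_compT {v x : G} {J : Subgroup (CBar v)} :
    x ∈ compT S v J ↔ x ∈ S ∧ ∃ hx : x ∈ cent v, qmap (cent v) ⟨x, hx⟩ ∈ centralizer (J : Set (CBar v)) := by
  constructor
  · rintro ⟨hxS, ⟨y, hy⟩, hJ, rfl⟩; exact ⟨hxS, hy, hJ⟩
  · rintro ⟨hxS, hx, hJ⟩; exact ⟨hxS, ⟨x, hx⟩, hJ, rfl⟩

/-- Transport of a component under `N(S)`. -/
theorem comp_conj {g v : G} (hg : g ∈ normalizer (S : Set G)) {J : Subgroup (CBar v)}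
    (h : IsComp S v J) :
    ∃ J' : Subgroup (CBar (g * v * g⁻¹)), IsComp S (g * v * g⁻¹) J' ∧
      compU S (g * v * g⁻¹) J' = (compU S v J).map (MulAut.conj g).toMonoidHom ∧
      compT S (g * v * g⁻¹) J' = (compT S v J).map (MulAut.conj g).toMonoidHom := by
  refine ⟨J.map (conjBar g v).toMonoidHom, ⟨LocalEven.ProductFusion.conj_mem_of_mem_normalizer hg h.mem,
    fun e => h.ne (conj_eq_one_iff.1 e), Components.IsComponent.mapEquiv h.comp _⟩, ?_, ?_⟩
  · ext x
    constructor
    · intro hx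
      obtain ⟨hxS, hx', hJ⟩ := mem_compU.1 hx
      obtain ⟨y, hy, e⟩ := hJ
      obtain ⟨c, hc⟩ := (conjCent g v).surjective ⟨x, hx'⟩
      have hyc : y = qmap (cent v) c := (conjBar g v).injective (by
        rw [conjBar_mk, hc]; exact e)
      have hcx : g * (c : G) * g⁻¹ = x := by rw [← coe_conjCent, hc]
      refine ⟨c, mem_compU.2 ⟨?_, c.2, hyc ▸ hy⟩, hcx⟩
      rw [← hcx] at hxS
      exact (mem_normalizer_iff.1 hg c).2 hxS
    · rintro ⟨c, hc, rfl⟩
      obtain ⟨hcS, hc', hJ⟩ := mem_compU.1 hc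
      exact mem_compU.2 ⟨LocalEven.ProductFusion.conj_mem_of_mem_normalizer hg hcS,
        conj_mem_cent hc', qmap (cent v) ⟨c, hc'⟩, hJ, rfl⟩
  · ext x
    constructor
    · intro hx
      obtain ⟨hxS, hx', hJ⟩ := mem_compT.1 hx
      obtain ⟨c, hc⟩ := (conjCent g v).surjective ⟨x, hx'⟩
      have hcx : g * (c : G) * g⁻¹ = x := by rw [← coe_conjCent, hc]
      refine ⟨c, mem_compT.2 ⟨?_, c.2, ?_⟩, hcx⟩
      · rw [← hcx] at hxS
        exact (mem_normalizer_iff.1 hg c).2 hxS
      · refine mem_centralizer_iff.2 fun y hy => (conjBar g v).injective ?_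
        rw [map_mul, map_mul, show qmap (cent v) ⟨(c : G), c.2⟩ = qmap (cent v) c from rfl,
          conjBar_mk, hc]
        exact mem_centralizer_iff.1 hJ _ ⟨y, hy, rfl⟩
    · rintro ⟨c, hc, rfl⟩
      obtain ⟨hcS, hc', hJ⟩ := mem_compT.1 hc
      refine mem_compT.2 ⟨LocalEven.ProductFusion.conj_mem_of_mem_normalizer hg hcS,
        conj_mem_cent hc', ?_⟩
      refine mem_centralizer_iff.2 ?_
      rintro _ ⟨y, hy, rfl⟩
      have h1 := congrArg (conjBar g v) (mem_centralizer_iff.1 hJ y hy)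
      rw [map_mul, map_mul, conjBar_mk] at h1
      exact h1

theorem exists_isMinComp {v : G} {J : Subgroup (CBar v)} (h : IsComp S v J) :
    ∃ (w : G) (K : Subgroup (CBar w)), IsMinComp S w K ∧ compT S w K ≤ compT S v J := by
  obtain ⟨T, ⟨⟨w, K, hK, hT⟩, hle⟩, hmin⟩ : ∃ T, _root_.Minimal (fun T : Subgroup G =>
      (∃ (w : G) (K : Subgroup (CBar w)), IsComp S w K ∧ compT S w K = T) ∧ T ≤ compT S v J) T :=
    (Set.toFinite {T : Subgroup G | (∃ (w : G) (K : Subgroup (CBar w)), IsComp S w K ∧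
      compT S w K = T) ∧ T ≤ compT S v J}).exists_minimal ⟨_, ⟨v, J, h, rfl⟩, le_rfl⟩
  refine ⟨w, K, ⟨hK, fun w' K' hK' hle' => ?_⟩, hT ▸ hle⟩
  rw [hT] at hle' ⊢
  exact le_antisymm hle' (hmin ⟨⟨w', K', hK', rfl⟩, hle'.trans hle⟩ hle')

theorem IsMinComp.conj {g v : G} (hg : g ∈ normalizer (S : Set G)) {J : Subgroup (CBar v)}
    (h : IsMinComp S v J) : IsBlock S ((compU S v J).map (MulAut.conj g).toMonoidHom) := by
  obtain ⟨J', hJ', hU, hT⟩ := comp_conj hg h.toIsComp
  refine ⟨_, J', ⟨hJ', fun w K hK hle => ?_⟩, hU⟩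
  obtain ⟨K', hK', -, hKT⟩ := comp_conj (inv_mem hg) hK
  have e : ((compT S v J).map (MulAut.conj g).toMonoidHom).map (MulAut.conj g⁻¹).toMonoidHom =
      compT S v J := by
    ext x; constructor
    · rintro ⟨_, ⟨y, hy, rfl⟩, rfl⟩; simpa [mul_assoc] using hy
    · intro hx; exact ⟨g * x * g⁻¹, ⟨x, hx, rfl⟩, by simp [mul_assoc]⟩
  have h1 := h.min _ K' hK' (by
    rw [hKT]; exact (map_mono (hle.trans hT.le)).trans e.le)
  rw [hKT] at h1
  refine map_injective (f := (MulAut.conj g⁻¹).toMonoidHom) (MulEquiv.injective _) ?_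
  exact h1.trans (by rw [hT]; exact e.symm)

namespace CompFacts

theorem card_mul (F : CompFacts S) (St : Setting S) {v : G} {J : Subgroup (CBar v)}
    (h : IsComp S v J) :
    Nat.card ↥(compU S v J) * Nat.card ↥(compT S v J) = Nat.card S := by
  have D := F.data v h.mem h.ne J h.comp
  rw [← Coprime.card_sup_of_le_normalizer (St.le_normalizer_sup (A := compU S v J) (B := compT S v J)
    inf_le_left inf_le_left) (disjoint_iff.2 D.disjoint), D.sup]

/-- `compT` is larger than `compU`. -/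
theorem card_lt (F : CompFacts S) (hM : ModuleHyp S) (hirr : Irreducible S)
    (h8 : Nat.card S ≠ 8) {v : G} {J : Subgroup (CBar v)} (h : IsComp S v J) :
    Nat.card ↥(compU S v J) < Nat.card ↥(compT S v J) := by
  have D := F.data v h.mem h.ne J h.comp
  by_contra hcon
  push Not at hcon
  refine h8 (hM hirr _ _ D.sup D.disjoint D.four (fun e => h.ne ?_) hcon D.rotate)
  have := D.mem
  rw [e] at this
  exact Subgroup.mem_bot.1 this

theorem compU_le_compT (_F : CompFacts S) {w : G} {J K : Subgroup (CBar w)}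
    (hJ : Cfsg.IsComponent J) (hK : Cfsg.IsComponent K) (hne : J ≠ K) :
    compU S w J ≤ compT S w K := by
  intro x hx
  obtain ⟨hxS, hx', hxJ⟩ := mem_compU.1 hx
  exact mem_compT.2 ⟨hxS, hx', Components.IsComponent.le_centralizer_of_ne hJ hK hne hxJ⟩

/-- In the centraliser of an element of its `compT`, a minimal component keeps `compU` and `compT`. -/
theorem pump_min (F : CompFacts S) (St : Setting S) (hP : PumpHyp S) {v w : G}
    {J : Subgroup (CBar v)} (h : IsMinComp S v J) (hw : w ∈ compT S v J) (hw1 : w ≠ 1) :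
    ∃ K : Subgroup (CBar w), Cfsg.IsComponent K ∧ compU S w K = compU S v J ∧
      compT S w K = compT S v J := by
  obtain ⟨K, hK, hUK, hTK⟩ := hP v h.mem h.ne J h.comp w hw hw1
  have hKc : IsComp S w K := ⟨hw.1, hw1, hK⟩
  have hT := h.min w K hKc hTK
  refine ⟨K, hK, (eq_of_le_of_card_ge hUK ?_).symm, hT⟩
  have h1 := F.card_mul St hKc
  have h2 := F.card_mul St h.toIsComp
  rw [hT] at h1
  exact le_of_eq (Nat.eq_of_mul_eq_mul_right Nat.card_pos (h1.trans h2.symm))

/-- Two minimal components are equal in `compU` or each `compU` lies in the other `compT`. -/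
theorem commute_blocks (F : CompFacts S) (St : Setting S) (hM : ModuleHyp S) (hirr : Irreducible S)
    (h8 : Nat.card S ≠ 8) (hP : PumpHyp S) {v v' : G} {J : Subgroup (CBar v)}
    {J' : Subgroup (CBar v')} (h : IsMinComp S v J) (h' : IsMinComp S v' J')
    (hne : compU S v J ≠ compU S v' J') : compU S v J ≤ compT S v' J' := by
  obtain ⟨w, hw, hw', hw1⟩ : ∃ w, w ∈ compT S v J ∧ w ∈ compT S v' J' ∧ w ≠ 1 := by
    by_contra hcon
    push Not at hcon
    have hd : compT S v J ⊓ compT S v' J' = ⊥ := eq_bot_iff.2 fun w hw =>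
      Subgroup.mem_bot.2 (hcon w hw.1 hw.2)
    have hc := Coprime.card_sup_of_le_normalizer
      (St.le_normalizer_sup (A := compT S v J) (B := compT S v' J') inf_le_left inf_le_left)
      (disjoint_iff.2 hd)
    have hle : Nat.card ↥(compT S v J ⊔ compT S v' J') ≤ Nat.card S :=
      Subgroup.card_le_of_le (sup_le inf_le_left inf_le_left)
    have h1 := F.card_mul St h.toIsComp
    have h2 := F.card_mul St h'.toIsComp
    have h3 := F.card_lt hM hirr h8 h.toIsComp
    have h4 := F.card_lt hM hirr h8 h'.toIsComp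
    rw [hc] at hle
    have hS : 0 < Nat.card S := Nat.card_pos
    have h5 := Nat.mul_le_mul hle hle
    have h6 : (Nat.card ↥(compU S v J) * Nat.card ↥(compT S v J)) *
        (Nat.card ↥(compU S v' J') * Nat.card ↥(compT S v' J')) <
        (Nat.card ↥(compT S v J) * Nat.card ↥(compT S v' J')) *
          (Nat.card ↥(compT S v J) * Nat.card ↥(compT S v' J')) := by
      have hT : 0 < Nat.card ↥(compT S v J) := Nat.card_pos
      have hT' : 0 < Nat.card ↥(compT S v' J') := Nat.card_pos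
      calc _ < (Nat.card ↥(compT S v J) * Nat.card ↥(compT S v J)) *
            (Nat.card ↥(compT S v' J') * Nat.card ↥(compT S v' J')) :=
          Nat.mul_lt_mul_of_lt_of_lt (Nat.mul_lt_mul_of_pos_right h3 hT)
            (Nat.mul_lt_mul_of_pos_right h4 hT')
        _ = _ := by ring
    rw [h1, h2] at h6
    omega
  obtain ⟨K, hK, hKU, -⟩ := F.pump_min St hP h hw hw1
  obtain ⟨K', hK', hKU', hKT'⟩ := F.pump_min St hP h' hw' hw1
  have hne' : K ≠ K' := fun e => hne (by rw [← hKU, e, hKU'])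
  rw [← hKU, ← hKT']
  exact F.compU_le_compT hK hK' hne'

/-- **The blocks.** -/
theorem blocks (F : CompFacts S) (St : Setting S) (hM : ModuleHyp S) (hirr : Irreducible S)
    (h8 : Nat.card S ≠ 8) (hP : PumpHyp S) :
    Blocks S (fun X : {X : Subgroup G // IsBlock S X} => (X : Subgroup G)) := by
  set U := fun X : {X : Subgroup G // IsBlock S X} => (X : Subgroup G) with hU
  have hothers : ∀ (v : G) (J : Subgroup (CBar v)) (h : IsMinComp S v J),
      others U ⟨compU S v J, v, J, h, rfl⟩ ≤ compT S v J := by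
    intro v J h
    refine iSup_le fun Y => ?_
    obtain ⟨⟨_, v', J', h', rfl⟩, hY⟩ := Y
    exact F.commute_blocks St hM hirr h8 hP h' h fun e => hY (Subtype.ext e)
  have hne : Nonempty {X : Subgroup G // IsBlock S X} := by
    obtain ⟨v, hv, hv1, J, hJ⟩ := F.exists_comp
    obtain ⟨w, K, hK, -⟩ := exists_isMinComp (S := S) ⟨hv, hv1, hJ⟩
    exact ⟨⟨_, w, K, hK, rfl⟩⟩
  have hsupS : ⨆ X, U X = S := by
    refine (hirr _ (iSup_le fun X => ?_) fun g hg => ?_).resolve_left fun e => ?_
    · obtain ⟨v, J, -, hX⟩ := X.2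
      exact le_of_eq_of_le hX.symm inf_le_left
    · refine LocalEven.ProductFusion.mem_normalizer_of_conj
        (LocalEven.ProductFusion.conj_mem_iSup fun X x hx => ?_)
      obtain ⟨v, J, h, hX⟩ := X.2
      refine le_iSup U ⟨_, h.conj hg⟩ ⟨x, ?_, rfl⟩
      show x ∈ compU S v J
      rw [hX]; exact hx
    · obtain ⟨⟨_, v, J, h, rfl⟩⟩ := hne
      have h4 := (F.data v h.mem h.ne J h.comp).four
      have h0 : compU S v J = ⊥ := le_bot_iff.1 (e ▸ le_iSup U ⟨_, v, J, h, rfl⟩)
      rw [h0, Subgroup.card_bot] at h4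
      omega
  refine ⟨fun X X' => ?_, hne, hsupS, fun X => ?_, fun X => ?_, fun g hg X => ?_,
    fun v hv hv1 J hJ => ?_, F.inner, F.exists_comp⟩
  · by_contra hcon
    push Not at hcon
    obtain ⟨v, J, h, hX⟩ := X.2
    obtain ⟨v', J', h', hX'⟩ := X'.2
    have hlt := F.card_lt hM hirr h8 h.toIsComp
    have hlt' := F.card_lt hM hirr h8 h'.toIsComp
    have hle : S ≤ compU S v J ⊔ compU S v' J' := by
      conv_lhs => rw [← hsupS]
      refine iSup_le fun Y => ?_
      by_cases h1 : Y = X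
      · exact le_sup_of_le_left (h1 ▸ hX.ge)
      · exact le_sup_of_le_right ((hcon Y h1) ▸ hX'.ge)
    have hcle : Nat.card S ≤ Nat.card ↥(compU S v J) * Nat.card ↥(compU S v' J') :=
      (Subgroup.card_le_of_le hle).trans (Nat.le_of_dvd
        (Nat.mul_pos Nat.card_pos Nat.card_pos)
        (Components.Signalizer.card_sup_dvd_mul (St.le_normalizer_sup inf_le_left inf_le_left)))
    have h1 := F.card_mul St h.toIsComp
    have h2 := F.card_mul St h'.toIsComp
    have hu : 0 < Nat.card ↥(compU S v J) := Nat.card_pos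
    have hu' : 0 < Nat.card ↥(compU S v' J') := Nat.card_pos
    nlinarith
  · obtain ⟨_, v, J, h, rfl⟩ := X
    refine eq_bot_iff.2 ((inf_le_inf_left _ ?_).trans (F.data v h.mem h.ne J h.comp).disjoint.le)
    exact hothers v J h
  · obtain ⟨v, J, h, hX⟩ := X.2
    show 4 ≤ Nat.card ↥(X : Subgroup G)
    rw [← hX]; exact (F.data v h.mem h.ne J h.comp).four
  · obtain ⟨v, J, h, hX⟩ := X.2
    exact ⟨⟨_, h.conj hg⟩, by rw [hU]; simp only [← hX]⟩
  · obtain ⟨w, K, hK, hle⟩ := exists_isMinComp (S := S) ⟨hv, hv1, hJ⟩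
    refine ⟨⟨_, w, K, hK, rfl⟩, ?_⟩
    rintro _ ⟨x, hx, rfl⟩
    obtain ⟨-, hx', hxJ⟩ := mem_compT.1 (hle (hothers w K hK hx))
    exact hxJ

/-- **A setting with all these properties is impossible unless `|S| = 8`.** -/
theorem card_eq_eight (F : CompFacts S) (St : Setting S) (hM : ModuleHyp S) (hirr : Irreducible S)
    (hP : PumpHyp S) : Nat.card S = 8 := by
  haveI : Fact (Nat.Prime 2) := ⟨Nat.prime_two⟩
  by_contra h8
  exact (F.blocks St hM hirr h8 hP).false_of_blocks St

end CompFacts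

end CfsgLib.WalterRank
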