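import Cfsg.Agent.Lib.WalterRank.Basic
import Cfsg.Agent.Lib.Components.CoreSeparated.Functor
import Cfsg.Agent.Lib.LocalEven.ProductFusion.Main
import Cfsg.Agent.Lib.Components.SFT.Complete
import Cfsg.Agent.S0205

/-!
# The functor of two blocks and its completion

Two four-groups in different blocks are core-separated.  The completion of their functor depends
only on one involution in each of the blocks, and is the same for all pairs of blocks.
-/

set_option autoImplicit false
set_option linter.unusedSectionVars false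
set_option linter.style.haveILetI false

universe u

namespace CfsgLib.WalterRank

open Subgroup
open CfsgLib.Components.CoreSeparated (img qmap Pair theta factor)
open CfsgLib.LocalEven.ProductFusion (oC theta1)
open scoped commutatorElement

variable {G : Type u} [Group G]

/-- The value of the functor at `x * y`. -/
def thetaMul (x y : G) : Subgroup G :=
  ⁅oC (x * y), zpowers x⁆ ⊔ (oC (x * y) ⊓ (oC x ⊓ oC y))

/-- The completion of the functor, from one involution in each of two blocks. -/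
def rab (x y : G) : Subgroup G := theta1 x y ⊔ theta1 y x ⊔ thetaMul x y

/-- Two four-groups in different blocks. -/
structure FrameOf {ι : Type*} (U : ι → Subgroup G) (F E : Subgroup G) (i j : ι) : Prop where
  ne : i ≠ j
  leF : F ≤ U i
  leE : E ≤ U j
  cardF : Nat.card F = 4
  cardE : Nat.card E = 4

theorem FrameOf.symm {ι : Type*} {U : ι → Subgroup G} {F E : Subgroup G} {i j : ι}
    (h : FrameOf U F E i j) : FrameOf U E F j i :=
  ⟨h.ne.symm, h.leE, h.leF, h.cardE, h.cardF⟩

variable [Finite G]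

theorem cent_eq (a : G) : centralizer ((zpowers a : Subgroup G) : Set G) = cent a := by
  rw [zpowers_eq_closure, centralizer_closure]

theorem oC_le_cent (a : G) : oC a ≤ cent a := LocalEven.ProductFusion.oC_le a

theorem coprime_oC (a : G) : (Nat.card (oC a)).Coprime 2 :=
  Nat.coprime_two_right.2 (LocalEven.ProductFusion.odd_card_oc _)

theorem mem_normalizer_theta1 {g a b : G} (ha : Commute g a) (hb : Commute g b) :
    g ∈ normalizer (theta1 a b : Set G) :=
  LocalEven.ProductFusion.mem_normalizer_of_conj fun v hv => by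
    have := LocalEven.ProductFusion.conj_mem_theta1 (g := g) hv
    rwa [ha.eq, hb.eq, mul_inv_cancel_right, mul_inv_cancel_right] at this

theorem conj_mem_rab {g x y v : G} (hv : v ∈ rab x y) :
    g * v * g⁻¹ ∈ rab (g * x * g⁻¹) (g * y * g⁻¹) := by
  refine LocalEven.ProductFusion.conj_mem_sup (LocalEven.ProductFusion.conj_mem_sup
    (fun w hw => mem_sup_left (mem_sup_left (LocalEven.ProductFusion.conj_mem_theta1 hw)))
    fun w hw => mem_sup_left (mem_sup_right (LocalEven.ProductFusion.conj_mem_theta1 hw)))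
    (fun w hw => mem_sup_right ?_) v hv
  have e : g * x * g⁻¹ * (g * y * g⁻¹) = g * (x * y) * g⁻¹ := by group
  refine LocalEven.ProductFusion.conj_mem_sup (fun u hu => mem_sup_left ?_)
    (fun u hu => mem_sup_right ?_) w hw
  · rw [e]
    exact LocalEven.ProductFusion.conj_mem_commutator
      (fun _ h => LocalEven.ProductFusion.conj_mem_oC h)
      (fun _ h => LocalEven.ProductFusion.conj_mem_zpowers_conj h) u hu
  · rw [e]
    exact mem_inf.2 ⟨LocalEven.ProductFusion.conj_mem_oC (mem_inf.1 hu).1,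
      mem_inf.2 ⟨LocalEven.ProductFusion.conj_mem_oC (mem_inf.1 hu).2.1,
        LocalEven.ProductFusion.conj_mem_oC (mem_inf.1 hu).2.2⟩⟩

theorem mem_normalizer_rab {g x y : G} (hx : Commute g x) (hy : Commute g y) :
    g ∈ normalizer (rab x y : Set G) :=
  LocalEven.ProductFusion.mem_normalizer_of_conj fun v hv => by
    have := conj_mem_rab (g := g) hv
    rwa [hx.eq, hy.eq, mul_inv_cancel_right, mul_inv_cancel_right] at this

variable {S : Subgroup G} {ι : Type*} {U : ι → Subgroup G}

namespace Blocks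

/-- The image of `O(C(y)) ∩ C(z)` centralises the components which `y` centralises. -/
theorem img_core_centralizes [Fact (Nat.Prime 2)] (_B : Blocks S U) (St : Setting S) {y z : G}
    (hy : y ∈ S) (hz : z ∈ S) {J : Subgroup (CBar z)} (hJ : Cfsg.IsComponent J)
    (hyJ : img (cent z) (zpowers y) ≤ centralizer (J : Set (CBar z))) :
    img (cent z) (oC y ⊓ cent z) ≤ centralizer (J : Set (CBar z)) := by
  refine Components.CoreSeparated.centralizes_of_le_centralizer
    Components.pPrimeCore_quotient_eq_bot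
    (Components.CoreSeparated.img_coprime inf_le_right
      ((coprime_oC y).coprime_dvd_left (card_dvd_of_le inf_le_left)))
    (Components.CoreSeparated.centralizer_img_le_normalizer
      (St.isPGroup.to_le (zpowers_le.2 hy)) (zpowers_le.2 (St.le_cent hz hy)) ?_) hJ
    (le_centralizer_iff.1 hyJ)
  intro g hg
  refine inf_normalizer_le_normalizer_inf ⟨?_, Subgroup.le_normalizer hg.2⟩
  exact LocalEven.ProductFusion.le_normalizer_oC y ((cent_eq y).le hg.1)

/-- The image of a part of `O(C(y)) ∩ C(z)` centralising all components is trivial. -/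
theorem le_oC_of_centralizes [Fact (Nat.Prime 2)] (_B : Blocks S U) (St : Setting S) {y z : G}
    (hy : y ∈ S) (hz : z ∈ S) {Y : Subgroup G} (hY : Y ≤ oC y ⊓ cent z)
    (h : ∀ J : Subgroup (CBar z), Cfsg.IsComponent J →
      img (cent z) Y ≤ centralizer (J : Set (CBar z))) : Y ≤ oC z := by
  have hR : IsPGroup 2 (zpowers y) := St.isPGroup.to_le (zpowers_le.2 hy)
  have hRC : zpowers y ≤ cent z := zpowers_le.2 (St.le_cent hz hy)
  refine Components.CoreSeparated.mem_core_of_img_eq_bot (hY.trans inf_le_right) ?_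
  refine Components.CoreSeparated.eq_bot_of_centralizes Components.pPrimeCore_quotient_eq_bot
    (Components.CoreSeparated.img_isPGroup hR)
    (Components.CoreSeparated.img_coprime (Q := oC y ⊓ cent z) inf_le_right
      ((coprime_oC y).coprime_dvd_left (card_dvd_of_le inf_le_left)))
    (Components.CoreSeparated.img_le_centralizer (R := zpowers y)
      (inf_le_left.trans ((oC_le_cent y).trans (cent_eq y).ge)))
    (Components.CoreSeparated.centralizer_img_le_normalizer hR hRC fun g hg => ?_)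
    (Components.CoreSeparated.img_mono hY) h
  exact inf_normalizer_le_normalizer_inf
    ⟨LocalEven.ProductFusion.le_normalizer_oC y ((cent_eq y).le hg.1), Subgroup.le_normalizer hg.2⟩

theorem zpowers_img_le (B : Blocks S U) {i k : ι} {x z : G} (hx : x ∈ U i) (hik : i ≠ k)
    {J : Subgroup (CBar z)} (hk : img (cent z) (others U k) ≤ centralizer (J : Set (CBar z))) :
    img (cent z) (zpowers x) ≤ centralizer (J : Set (CBar z)) :=
  (Components.CoreSeparated.img_mono (zpowers_le.2 (B.le_others hik hx))).trans hk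

/-- `O(C(x)) ∩ O(C(y))` is balanced for `x`, `y` in different blocks. -/
theorem inf_oC_le [Fact (Nat.Prime 2)] (B : Blocks S U) (St : Setting S) {i j : ι} (hij : i ≠ j)
    {x y z : G} (hx : x ∈ U i) (hy : y ∈ U j) (hz : z ∈ S) (hz1 : z ≠ 1) :
    oC x ⊓ oC y ⊓ cent z ≤ oC z := by
  refine B.le_oC_of_centralizes St (B.le j hy) hz (inf_le_inf_right _ inf_le_right) fun J hJ => ?_
  obtain ⟨k, hk⟩ := B.sep z hz hz1 J hJ
  rcases eq_or_ne j k with rfl | hjk
  · exact (Components.CoreSeparated.img_mono (inf_le_inf_right _ inf_le_left)).trans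
      (B.img_core_centralizes St (B.le i hx) hz hJ (B.zpowers_img_le hx hij hk))
  · exact (Components.CoreSeparated.img_mono (inf_le_inf_right _ inf_le_right)).trans
      (B.img_core_centralizes St (B.le j hy) hz hJ (B.zpowers_img_le hy hjk hk))

/-- `[O(C(y)) ∩ C(z), x] ≤ O(C(z))` for `x`, `y` in different blocks. -/
theorem commutator_oC_le [Fact (Nat.Prime 2)] (B : Blocks S U) (St : Setting S) {i j : ι}
    (hij : i ≠ j) {x y z : G} (hx : x ∈ U i) (hy : y ∈ U j) (hz : z ∈ S) (hz1 : z ≠ 1) :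
    ⁅oC y ⊓ cent z, zpowers x⁆ ≤ oC z := by
  have hxS := B.le i hx
  have hyS := B.le j hy
  have hR : IsPGroup 2 (zpowers y) := St.isPGroup.to_le (zpowers_le.2 hyS)
  have hRC : zpowers y ≤ cent z := zpowers_le.2 (St.le_cent hz hyS)
  have hXC : zpowers x ≤ cent z := zpowers_le.2 (St.le_cent hz hxS)
  have hXn : zpowers x ≤ normalizer ((oC y ⊓ cent z : Subgroup G) : Set G) := zpowers_le.2
    (inf_normalizer_le_normalizer_inf ⟨LocalEven.ProductFusion.mem_normalizer_oC_of_commute
      (St.commute hxS hyS), Subgroup.le_normalizer (St.le_cent hz hxS)⟩)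
  have hle : ⁅oC y ⊓ cent z, zpowers x⁆ ≤ oC y ⊓ cent z := Components.commutator_le_left_of_le_normalizer hXn
  refine B.le_oC_of_centralizes St hyS hz hle fun J hJ => ?_
  obtain ⟨k, hk⟩ := B.sep z hz hz1 J hJ
  rcases eq_or_ne j k with rfl | hjk
  · refine (Components.CoreSeparated.img_commutator_le inf_le_right hXC).trans
      (Components.CoreSeparated.commutator_le_centralizer ?_ (B.zpowers_img_le hx hij hk))
    exact Components.CoreSeparated.img_data hR hRC inf_le_right
      ((coprime_oC y).coprime_dvd_left (card_dvd_of_le inf_le_left))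
      (inf_le_left.trans ((oC_le_cent y).trans (cent_eq y).ge))
      (fun g hg => inf_normalizer_le_normalizer_inf
        ⟨LocalEven.ProductFusion.le_normalizer_oC y ((cent_eq y).le hg.1),
          Subgroup.le_normalizer hg.2⟩) hJ
  · exact (Components.CoreSeparated.img_mono hle).trans
      (B.img_core_centralizes St hyS hz hJ (B.zpowers_img_le hy hjk hk))

/-- Two distinct involutions of a block, or one, lie in a four-group of the block. -/
theorem exists_four (B : Blocks S U) (St : Setting S) {i : ι} {x x' : G} (hx : x ∈ U i)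
    (hx1 : x ≠ 1) (hx' : x' ∈ U i) (hx1' : x' ≠ 1) :
    ∃ F : Subgroup G, F ≤ U i ∧ Nat.card F = 4 ∧ x ∈ F ∧ x' ∈ F := by
  obtain ⟨w, hw, hw1, hwx, hx'w⟩ : ∃ w ∈ U i, w ≠ 1 ∧ w ≠ x ∧ (x' = x ∨ x' = w) := by
    rcases eq_or_ne x' x with rfl | h
    · by_contra hcon
      push Not at hcon
      have hle : (U i : Set G) ⊆ {1, x'} := fun w hw => by
        by_cases h1 : w = 1
        · exact Or.inl h1
        · by_cases h2 : w = x'
          · exact Or.inr h2
          · exact absurd rfl ((hcon w hw h1 h2).1)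
      have := (Nat.card_mono (Set.toFinite _) hle).trans
        (show Nat.card ({1, x'} : Set G) ≤ 2 by
          rw [Nat.card_coe_set_eq]; exact (Set.ncard_insert_le _ _).trans (by rw [Set.ncard_singleton]))
      have h4 : 4 ≤ Nat.card (U i : Set G) := B.four i
      omega
    · exact ⟨x', hx', hx1', h, Or.inr rfl⟩
  obtain ⟨h4, -⟩ := LocalEven.ProductFusion.four_of_two (St.orderOf_two (B.le i hx) hx1)
    (St.orderOf_two (B.le i hw) hw1) (St.commute (B.le i hx) (B.le i hw)) hwx.symm
  refine ⟨zpowers x ⊔ zpowers w, sup_le (zpowers_le.2 hx) (zpowers_le.2 hw), h4,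
    mem_sup_left (mem_zpowers x), ?_⟩
  rcases hx'w with rfl | rfl
  · exact mem_sup_left (mem_zpowers _)
  · exact mem_sup_right (mem_zpowers _)

end Blocks

namespace FrameOf

variable {F E : Subgroup G} {i j : ι} [Fact (Nat.Prime 2)]

theorem le_left (h : FrameOf U F E i j) (B : Blocks S U) : F ≤ S := h.leF.trans (B.le i)

theorem le_sup (h : FrameOf U F E i j) (B : Blocks S U) : F ⊔ E ≤ S :=
  sup_le (h.le_left B) (h.leE.trans (B.le j))

theorem pair (h : FrameOf U F E i j) (B : Blocks S U) (St : Setting S) : Pair F E where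
  h1 := Components.Signalizer.elementary_of_le St.elem (h.le_left B)
  h2 := Components.Signalizer.elementary_of_le St.elem (h.symm.le_left B)
  c1 := h.cardF
  comm x hx y hy := (St.commute (h.le_left B hx) (h.symm.le_left B hy)).eq
  sep c hc hc1 J hJ := by
    obtain ⟨k, hk⟩ := B.sep c (h.le_sup B hc) hc1 J hJ
    rcases eq_or_ne i k with rfl | hik
    · exact Or.inr ((Components.CoreSeparated.img_mono
        (h.leE.trans (B.le_others h.ne.symm))).trans hk)
    · exact Or.inl ((Components.CoreSeparated.img_mono (h.leF.trans (B.le_others hik))).trans hk)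

theorem functor (h : FrameOf U F E i j) (B : Blocks S U) (St : Setting S) :
    Cfsg.IsSignalizerFunctor 2 (F ⊔ E) (theta F E) :=
  Components.CoreSeparated.isSignalizerFunctor (h.pair B St) h.cardE

theorem theta_le_oC (h : FrameOf U F E i j) (B : Blocks S U) (St : Setting S) {a : G}
    (ha : a ∈ F ⊔ E) : theta F E a ≤ oC a :=
  inf_le_left.trans (Components.CoreSeparated.factor_le_core
    ((h.le_left B).trans (St.le_cent (h.le_sup B ha))))

theorem odd_theta (h : FrameOf U F E i j) (B : Blocks S U) (St : Setting S) {a : G}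
    (ha : a ∈ F ⊔ E) : Odd (Nat.card (theta F E a)) :=
  LocalEven.ProductFusion.odd_of_le (h.theta_le_oC B St ha) (LocalEven.ProductFusion.odd_card_oc _)

theorem split_theta (h : FrameOf U F E i j) (B : Blocks S U) (St : Setting S) {a b : G}
    (ha : a ∈ F ⊔ E) (ha1 : a ≠ 1) (hb : b ∈ F ⊔ E) :
    theta F E a ≤ ⁅theta F E a, zpowers b⁆ ⊔ (theta F E a ⊓ cent b) := by
  conv_lhs => rw [← LocalEven.ProductFusion.split (A := zpowers b) (U := theta F E a)
    (St.isPGroup.to_le (zpowers_le.2 (h.le_sup B hb)))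
    ((zpowers_le.2 hb).trans (Components.Signalizer.le_normalizer_theta (h.functor B St) ha ha1))
    (h.odd_theta B St ha)]
  rw [cent_eq]

/-- `V ≤ O(C(a)) ∩ O(C(c))` lies in the factor of a four-group containing `c`. -/
theorem inf_le_factor {D : Subgroup G} (St : Setting S) (hD : D ≤ S) {a c : G} (_ha : a ∈ S)
    (hc : c ∈ D) {V : Subgroup G} (hVa : V ≤ oC a) (hVc : V ≤ oC c)
    (hV : D ≤ normalizer (V : Set G)) : V ≤ factor D a := by
  conv_lhs => rw [← LocalEven.ProductFusion.split (St.isPGroup.to_le hD) hV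
    (LocalEven.ProductFusion.odd_of_le hVa (LocalEven.ProductFusion.odd_card_oc _))]
  exact sup_le ((commutator_mono hVa le_rfl).trans le_sup_left) fun v hv => mem_sup_right
    ⟨hVa hv.1, Components.CoreSeparated.core_inf_le_part hc ⟨hVc hv.1, hv.2⟩⟩

theorem le_normalizer_oC (St : Setting S) {D : Subgroup G} (hD : D ≤ S) {a : G} (ha : a ∈ S) :
    D ≤ normalizer (oC a : Set G) := fun _ hd =>
  LocalEven.ProductFusion.mem_normalizer_oC_of_commute (St.commute (hD hd) ha)

theorem theta_left (h : FrameOf U F E i j) (B : Blocks S U) (St : Setting S) {x y : G}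
    (hx : x ∈ F) (hx1 : x ≠ 1) (hy : y ∈ E) (hy1 : y ≠ 1) : theta F E x = theta1 x y := by
  have hxA : x ∈ F ⊔ E := mem_sup_left hx
  have hyA : y ∈ F ⊔ E := mem_sup_right hy
  have hf := h.functor B St
  have hFS := h.le_left B
  have hES := h.symm.le_left B
  refine le_antisymm ((h.split_theta B St hxA hx1 hyA).trans (sup_le ?_ ?_)) ?_
  · exact (commutator_mono (h.theta_le_oC B St hxA) le_rfl).trans le_sup_left
  · exact fun v hv => mem_sup_right ⟨h.theta_le_oC B St hxA hv.1,
      h.theta_le_oC B St hyA (hf.2.2.2 x hxA hx1 y hyA hy1 hv)⟩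
  refine le_inf ?_ (sup_le ((commutator_mono le_rfl (zpowers_le.2 hy)).trans le_sup_left)
    (inf_le_factor St hES (hFS hx) hy inf_le_left inf_le_right
      ((le_inf (le_normalizer_oC St hES (hFS hx)) (le_normalizer_oC St hES (hES hy))).trans
        inf_normalizer_le_normalizer_inf)))
  refine (sup_le (Components.commutator_le_left_of_le_normalizer
    (zpowers_le.2 (le_normalizer_oC St hES (hFS hx) hy))) inf_le_left).trans ?_
  exact inf_le_factor St hFS (hFS hx) hx le_rfl le_rfl (le_normalizer_oC St hFS (hFS hx))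

theorem theta_right (h : FrameOf U F E i j) (B : Blocks S U) (St : Setting S) {x y : G}
    (hx : x ∈ F) (hx1 : x ≠ 1) (hy : y ∈ E) (hy1 : y ≠ 1) : theta F E y = theta1 y x :=
  (inf_comm _ _).trans (h.symm.theta_left B St hy hy1 hx hx1)

theorem theta_mul (h : FrameOf U F E i j) (B : Blocks S U) (St : Setting S) {x y : G}
    (hx : x ∈ F) (hx1 : x ≠ 1) (hy : y ∈ E) (hy1 : y ≠ 1) :
    theta F E (x * y) = thetaMul x y := by
  have hxA : x ∈ F ⊔ E := mem_sup_left hx
  have hyA : y ∈ F ⊔ E := mem_sup_right hy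
  have haA := mul_mem hxA hyA
  have hf := h.functor B St
  have hFS := h.le_left B
  have hES := h.symm.le_left B
  have haS := h.le_sup B haA
  have ha1 : x * y ≠ 1 := fun e =>
    B.mul_not_mem (k := i) h.ne (h.leF hx) hx1 (h.leE hy) hy1 (e ▸ one_mem _)
  refine le_antisymm ((h.split_theta B St haA ha1 hxA).trans (sup_le ?_ ?_)) ?_
  · exact (commutator_mono (h.theta_le_oC B St haA) le_rfl).trans le_sup_left
  · intro v hv
    have hvy : v ∈ cent y := by
      refine mem_centralizer_singleton_iff.2 ?_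
      have h1 : Commute v (x * y) := mem_centralizer_singleton_iff.1 (hf.1 _ haA ha1 hv.1)
      have h2 : Commute v x := mem_centralizer_singleton_iff.1 hv.2
      have h3 := h2.inv_right.mul_right h1
      rwa [inv_mul_cancel_left] at h3
    exact mem_sup_right ⟨h.theta_le_oC B St haA hv.1,
      h.theta_le_oC B St hxA (hf.2.2.2 _ haA ha1 x hxA hx1 hv),
      h.theta_le_oC B St hyA (hf.2.2.2 _ haA ha1 y hyA hy1 ⟨hv.1, hvy⟩)⟩
  have hV : ∀ D ≤ S, D ≤ normalizer ((oC (x * y) ⊓ (oC x ⊓ oC y) : Subgroup G) : Set G) :=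
    fun D hD => (le_inf (le_normalizer_oC St hD haS) ((le_inf (le_normalizer_oC St hD (hFS hx))
      (le_normalizer_oC St hD (hES hy))).trans inf_normalizer_le_normalizer_inf)).trans
        inf_normalizer_le_normalizer_inf
  refine le_inf
    (sup_le ((commutator_mono le_rfl (zpowers_le.2 hx)).trans le_sup_left)
      (inf_le_factor St hFS haS hx inf_le_left (inf_le_right.trans inf_le_left) (hV _ hFS)))
    (sup_le (le_trans ?_ ((commutator_mono le_rfl (zpowers_le.2 hy)).trans le_sup_left))
      (inf_le_factor St hES haS hy inf_le_left (inf_le_right.trans inf_le_right) (hV _ hES)))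
  refine LocalEven.ProductFusion.commutator_zpowers_le (St.mul_self (hFS hx))
    (le_normalizer_oC St hFS haS hx) fun v hv hxv => ?_
  have hyv : y * v * y⁻¹ = v⁻¹ := by
    have hva : (x * y) * v * (x * y)⁻¹ = v := by
      rw [(LocalEven.ProductFusion.commute_of_mem_oC hv).symm.eq, mul_inv_cancel_right]
    have hxi : x⁻¹ = x := inv_eq_of_mul_eq_one_right (St.mul_self (hFS hx))
    calc y * v * y⁻¹ = x⁻¹ * ((x * y) * v * (x * y)⁻¹) * x := by group
      _ = x * v * x⁻¹ := by rw [hva, hxi]
      _ = v⁻¹ := hxv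
  refine (LocalEven.ProductFusion.sq_mem_iff
    (LocalEven.ProductFusion.odd_orderOf (LocalEven.ProductFusion.odd_card_oc _) hv)).1 ?_
  have e : v * v = ⁅v, y⁆ := by
    have h2 : y * v⁻¹ * y⁻¹ = v := by
      have := congrArg (·⁻¹) hyv
      simpa [mul_assoc] using this
    rw [commutatorElement_def, mul_assoc, mul_assoc, ← mul_assoc y, h2]
  rw [e]
  exact commutator_mem_commutator hv (mem_zpowers y)

theorem solvable (h : FrameOf U F E i j) (B : Blocks S U) (St : Setting S) :
    Cfsg.IsSolvableSignalizerFunctor 2 (F ⊔ E) (theta F E) :=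
  ⟨h.functor B St, fun _ ha _ => Cfsg.Agent.S0205.result (h.odd_theta B St ha)⟩

theorem elem_sup (h : FrameOf U F E i j) (B : Blocks S U) (St : Setting S) :
    Cfsg.IsElementaryAbelian 2 (F ⊔ E) :=
  Components.Signalizer.elementary_of_le St.elem (h.le_sup B)

theorem card_sup (h : FrameOf U F E i j) (B : Blocks S U) (St : Setting S) :
    2 ^ 3 ≤ Nat.card ↥(F ⊔ E) := by
  have hd : Disjoint F E := disjoint_def.2 fun {x} hx hx' => by
    by_contra hx1
    exact h.ne (B.eq_of_mem (h.leF hx) (h.leE hx') hx1)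
  rw [Coprime.card_sup_of_le_normalizer (St.le_normalizer_sup (h.le_left B) (h.symm.le_left B)) hd,
    h.cardF, h.cardE]
  norm_num

/-- The completion of the functor. -/
abbrev clo (F E : Subgroup G) : Subgroup G :=
  ⨆ a : {a : G // a ∈ F ⊔ E ∧ a ≠ 1}, theta F E (a : G)

/-- The completion is generated by the values on any non-trivial subgroup. -/
theorem clo_le (h : FrameOf U F E i j) (B : Blocks S U) (St : Setting S) {D M : Subgroup G}
    (hD : D ≤ F ⊔ E) (hD2 : 2 < Nat.card D) (hM : ∀ d ∈ D, d ≠ 1 → theta F E d ≤ M) :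
    clo F E ≤ M := by
  obtain ⟨hm, hfix⟩ := Components.SFT.solvable_complete (h.elem_sup B St) (h.card_sup B St)
    (h.solvable B St)
  have hDb : D ≠ ⊥ := fun e => by rw [e, Subgroup.card_bot] at hD2; omega
  refine (Components.Signalizer.le_iSup_centralizer_relIndex (h.elem_sup B St) hD hDb hm.2.1
    (Components.Signalizer.member_le_normalizer hm)).trans (iSup_le fun D₀ => ?_)
  obtain ⟨d, hd, hd1⟩ := (D₀ : Subgroup G).bot_or_exists_ne_one.resolve_left fun e => by
    have h1 := Coprime.card_mul_relIndex' D₀.2.1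
    rw [D₀.2.2, e, Subgroup.card_bot, one_mul] at h1
    omega
  refine le_trans (le_inf inf_le_left (inf_le_right.trans
    (centralizer_le (Set.singleton_subset_iff.2 hd)))) ?_
  rw [hfix d (hD (D₀.2.1 hd)) hd1]
  exact hM d (D₀.2.1 hd) hd1

/-- **The completion depends on one involution in each block.** -/
theorem clo_eq (h : FrameOf U F E i j) (B : Blocks S U) (St : Setting S) {x y : G}
    (hx : x ∈ F) (hx1 : x ≠ 1) (hy : y ∈ E) (hy1 : y ≠ 1) : clo F E = rab x y := by
  have hxA : x ∈ F ⊔ E := mem_sup_left hx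
  have hyA : y ∈ F ⊔ E := mem_sup_right hy
  have haA := mul_mem hxA hyA
  have ha1 : x * y ≠ 1 := fun e =>
    B.mul_not_mem (k := i) h.ne (h.leF hx) hx1 (h.leE hy) hy1 (e ▸ one_mem _)
  have hxy : x ≠ y := B.ne_of_mem h.ne (h.leF hx) hx1 (h.leE hy)
  obtain ⟨h4, -⟩ := LocalEven.ProductFusion.four_of_two (St.orderOf_two (h.le_left B hx) hx1)
    (St.orderOf_two (h.symm.le_left B hy) hy1)
    (St.commute (h.le_left B hx) (h.symm.le_left B hy)) hxy
  refine le_antisymm (h.clo_le B St (sup_le (zpowers_le.2 hxA) (zpowers_le.2 hyA)) (by omega)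
    fun d hd hd1 => ?_) (sup_le (sup_le ?_ ?_) ?_)
  · obtain ⟨p, hp, q, hq, rfl⟩ := St.mem_sup (zpowers_le.2 (h.le_left B hx))
      (zpowers_le.2 (h.symm.le_left B hy)) hd
    rcases LocalEven.ProductFusion.eq_one_or_of_mem_zpowers (St.mul_self (h.le_left B hx)) hp
      with rfl | rfl <;>
    rcases LocalEven.ProductFusion.eq_one_or_of_mem_zpowers (St.mul_self (h.symm.le_left B hy)) hq
      with rfl | rfl
    · exact absurd (one_mul 1) hd1
    · rw [one_mul, h.theta_right B St hx hx1 hy hy1]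
      exact le_sup_of_le_left le_sup_right
    · rw [mul_one, h.theta_left B St hx hx1 hy hy1]
      exact le_sup_of_le_left le_sup_left
    · rw [h.theta_mul B St hx hx1 hy hy1]; exact le_sup_right
  · rw [← h.theta_left B St hx hx1 hy hy1]
    exact le_iSup (fun a : {a : G // a ∈ F ⊔ E ∧ a ≠ 1} => theta F E (a : G)) ⟨x, hxA, hx1⟩
  · rw [← h.theta_right B St hx hx1 hy hy1]
    exact le_iSup (fun a : {a : G // a ∈ F ⊔ E ∧ a ≠ 1} => theta F E (a : G)) ⟨y, hyA, hy1⟩
  · rw [← h.theta_mul B St hx hx1 hy hy1]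
    exact le_iSup (fun a : {a : G // a ∈ F ⊔ E ∧ a ≠ 1} => theta F E (a : G)) ⟨x * y, haA, ha1⟩

/-- The completion is generated by the values on `E`. -/
theorem clo_eq_right (h : FrameOf U F E i j) (B : Blocks S U) (St : Setting S) {x : G}
    (hx : x ∈ F) (hx1 : x ≠ 1) :
    clo F E = ⨆ e : {e : G // e ∈ E ∧ e ≠ 1}, theta1 (e : G) x := by
  refine le_antisymm (h.clo_le B St le_sup_right (by rw [h.cardE]; omega) fun d hd hd1 => ?_)
    (iSup_le fun e => ?_)
  · rw [h.theta_right B St hx hx1 hd hd1]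
    exact le_iSup (fun e : {e : G // e ∈ E ∧ e ≠ 1} => theta1 (e : G) x) ⟨d, hd, hd1⟩
  · rw [← h.theta_right B St hx hx1 e.2.1 e.2.2]
    exact le_iSup (fun a : {a : G // a ∈ F ⊔ E ∧ a ≠ 1} => theta F E (a : G))
      ⟨e, mem_sup_right e.2.1, e.2.2⟩

end FrameOf

namespace Blocks

variable [Fact (Nat.Prime 2)] {i j l : ι} {x x' y y' z : G}

theorem exists_frame (B : Blocks S U) (St : Setting S) (hij : i ≠ j) (hx : x ∈ U i) (hx1 : x ≠ 1)
    (hx' : x' ∈ U i) (hx1' : x' ≠ 1) (hy : y ∈ U j) (hy1 : y ≠ 1) (hy' : y' ∈ U j) (hy1' : y' ≠ 1) :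
    ∃ F E : Subgroup G, FrameOf U F E i j ∧ x ∈ F ∧ x' ∈ F ∧ y ∈ E ∧ y' ∈ E := by
  obtain ⟨F, hF, hF4, hxF, hxF'⟩ := B.exists_four St hx hx1 hx' hx1'
  obtain ⟨E, hE, hE4, hyE, hyE'⟩ := B.exists_four St hy hy1 hy' hy1'
  exact ⟨F, E, ⟨hij, hF, hE, hF4, hE4⟩, hxF, hxF', hyE, hyE'⟩

theorem rab_eq (B : Blocks S U) (St : Setting S) (hij : i ≠ j) (hx : x ∈ U i) (hx1 : x ≠ 1)
    (hx' : x' ∈ U i) (hx1' : x' ≠ 1) (hy : y ∈ U j) (hy1 : y ≠ 1) (hy' : y' ∈ U j) (hy1' : y' ≠ 1) :
    rab x y = rab x' y' := by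
  obtain ⟨F, E, h, a, a', b, b'⟩ := B.exists_frame St hij hx hx1 hx' hx1' hy hy1 hy' hy1'
  rw [← h.clo_eq B St a hx1 b hy1, h.clo_eq B St a' hx1' b' hy1']

theorem rab_symm (B : Blocks S U) (St : Setting S) (hij : i ≠ j) (hx : x ∈ U i) (hx1 : x ≠ 1)
    (hy : y ∈ U j) (hy1 : y ≠ 1) : rab x y = rab y x := by
  obtain ⟨F, E, h, a, -, b, -⟩ := B.exists_frame St hij hx hx1 hx hx1 hy hy1 hy hy1
  have e : thetaMul x y = thetaMul y x := by
    rw [← h.theta_mul B St a hx1 b hy1, ← h.symm.theta_mul B St b hy1 a hx1,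
      (St.commute (h.le_left B a) (h.symm.le_left B b)).eq]
    exact inf_comm _ _
  rw [rab, rab, sup_comm (theta1 x y), e]

/-- Another block gives the same value on `O(C(y))`. -/
theorem theta1_le (B : Blocks S U) (St : Setting S) (hij : i ≠ j) (hx : x ∈ U i)
    (hx1 : x ≠ 1) (hy : y ∈ U j) (hy1 : y ≠ 1) (hz : z ∈ U l) (hz1 : z ≠ 1) :
    theta1 y x ≤ theta1 y z := by
  obtain ⟨F, E, h, hxF, -, hyE, -⟩ := B.exists_frame St hij hx hx1 hx hx1 hy hy1 hy hy1
  have hxS := B.le i hx
  have hyS := B.le j hy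
  have hzS := B.le l hz
  have hR : theta1 y x ≤ oC y := sup_le (Components.commutator_le_left_of_le_normalizer
    (zpowers_le.2 (LocalEven.ProductFusion.mem_normalizer_oC_of_commute (St.commute hxS hyS))))
    inf_le_left
  have hodd := LocalEven.ProductFusion.odd_of_le hR (LocalEven.ProductFusion.odd_card_oc _)
  have hRn : zpowers z ≤ normalizer (theta1 y x : Set G) :=
    zpowers_le.2 (mem_normalizer_theta1 (St.commute hzS hyS) (St.commute hzS hxS))
  have hQ : theta1 y x ⊓ cent z ≤ oC z := by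
    have hQn : zpowers x ≤ normalizer ((theta1 y x ⊓ cent z : Subgroup G) : Set G) := zpowers_le.2
      (inf_normalizer_le_normalizer_inf ⟨mem_normalizer_theta1 (St.commute hxS hyS) (Commute.refl x),
        Subgroup.le_normalizer (St.le_cent hzS hxS)⟩)
    conv_lhs => rw [← LocalEven.ProductFusion.split (A := zpowers x)
      (St.isPGroup.to_le (zpowers_le.2 hxS)) hQn (LocalEven.ProductFusion.odd_of_le inf_le_left hodd),
      cent_eq]
    refine sup_le ((commutator_mono (inf_le_inf_right _ hR) le_rfl).trans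
      (B.commutator_oC_le St hij hx hy hzS hz1)) fun v hv => ?_
    refine B.inf_oC_le St hij hx hy hzS hz1 ⟨⟨?_, hR hv.1.1⟩, hv.1.2⟩
    have hv' : v ∈ theta F E y := by rw [h.theta_right B St hxF hx1 hyE hy1]; exact hv.1.1
    exact h.theta_le_oC B St (mem_sup_left hxF)
      ((h.functor B St).2.2.2 y (mem_sup_right hyE) hy1 x (mem_sup_left hxF) hx1 ⟨hv', hv.2⟩)
  conv_lhs => rw [← LocalEven.ProductFusion.split (A := zpowers z)
    (St.isPGroup.to_le (zpowers_le.2 hzS)) hRn hodd, cent_eq]
  exact sup_le ((commutator_mono hR le_rfl).trans le_sup_left)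
    fun v hv => mem_sup_right ⟨hR hv.1, hQ hv⟩

/-- Changing the first block. -/
theorem rab_left (B : Blocks S U) (St : Setting S) (hij : i ≠ j) (hlj : l ≠ j) (hx : x ∈ U i)
    (hx1 : x ≠ 1) (hy : y ∈ U j) (hy1 : y ≠ 1) (hz : z ∈ U l) (hz1 : z ≠ 1) :
    rab x y = rab z y := by
  obtain ⟨F, hF, hF4, hxF, -⟩ := B.exists_four St hx hx1 hx hx1
  obtain ⟨D, hD, hD4, hzD, -⟩ := B.exists_four St hz hz1 hz hz1
  obtain ⟨E, hE, hE4, hyE, -⟩ := B.exists_four St hy hy1 hy hy1
  have h : FrameOf U F E i j := ⟨hij, hF, hE, hF4, hE4⟩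
  have h' : FrameOf U D E l j := ⟨hlj, hD, hE, hD4, hE4⟩
  rw [← h.clo_eq B St hxF hx1 hyE hy1, ← h'.clo_eq B St hzD hz1 hyE hy1,
    h.clo_eq_right B St hxF hx1, h'.clo_eq_right B St hzD hz1]
  refine le_antisymm (iSup_mono fun e => B.theta1_le St hij hx hx1 (hE e.2.1) e.2.2 hz hz1)
    (iSup_mono fun e => B.theta1_le St hlj hz hz1 (hE e.2.1) e.2.2 hx hx1)

/-- **All pairs of blocks give the same subgroup.** -/
theorem rab_congr (B : Blocks S U) (St : Setting S) {i' j' : ι} (hij : i ≠ j) (hij' : i' ≠ j')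
    (hx : x ∈ U i) (hx1 : x ≠ 1) (hy : y ∈ U j) (hy1 : y ≠ 1) (hx' : x' ∈ U i') (hx1' : x' ≠ 1)
    (hy' : y' ∈ U j') (hy1' : y' ≠ 1) : rab x y = rab x' y' := by
  obtain ⟨k, hkj, hkj'⟩ := B.third j j'
  obtain ⟨w, hw, hw1⟩ := B.exists_ne_one k
  rw [B.rab_left St hij hkj hx hx1 hy hy1 hw hw1, B.rab_symm St hkj hw hw1 hy hy1,
    B.rab_left St hkj.symm hkj'.symm hy hy1 hw hw1 hy' hy1',
    B.rab_symm St hkj'.symm hy' hy1' hw hw1,
    B.rab_left St hkj' hij' hw hw1 hy' hy1' hx' hx1']

end Blocks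

end CfsgLib.WalterRank
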