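import Cfsg.Agent.Lib.WalterRank.FromComponents

/-!
# A component survives in the centraliser of an element of its `compT`

The perfect residual of the preimage of `J` in `C(compT)` acts non-trivially on exactly one
component of `C(w)/O(C(w))`.
-/

set_option autoImplicit false
set_option linter.unusedSectionVars false
set_option linter.style.haveILetI false

universe u

namespace CfsgLib.WalterRank

open Subgroup
open CfsgLib.Components.CoreSeparated (img qmap)
open CfsgLib.LocalEven.ProductFusion (oC)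
open scoped commutatorElement

variable {G : Type u} [Group G] [Finite G] {S : Subgroup G}

/-- The preimage of `J` in `C(compT)`. -/
def preComp (S : Subgroup G) (v : G) (J : Subgroup (CBar v)) : Subgroup G :=
  centralizer (compT S v J : Set G) ⊓ (J.comap (qmap (cent v))).map (cent v).subtype

namespace CompFacts

theorem compT_le_cent (St : Setting S) {v : G} {J : Subgroup (CBar v)} {w : G} (hw : w ∈ S) :
    compT S v J ≤ cent w := inf_le_left.trans (St.le_cent hw)

theorem compU_le_preComp (St : Setting S) {v : G} {J : Subgroup (CBar v)} :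
    compU S v J ≤ preComp S v J :=
  le_inf (inf_le_left.trans (St.le_centralizer inf_le_left)) inf_le_right

/-- The residual covers `J` and contains `compU`. -/
theorem compU_le_res (_F : CompFacts S) (St : Setting S) {v : G} {J : Subgroup (CBar v)}
    (h : IsComp S v J) :
    compU S v J ≤ res (preComp S v J) ∧
      J ≤ ((res (preComp S v J)).subgroupOf (cent v)).map (qmap (cent v)) := by
  haveI : Fact (Nat.Prime 2) := ⟨Nat.prime_two⟩
  set K := preComp S v J with hK
  set π := qmap (cent v) with hπ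
  have hT2 : IsPGroup 2 ↥(compT S v J) := St.isPGroup.to_le inf_le_left
  have hKv : K ≤ cent v := inf_le_right.trans (map_subtype_le _)
  have hle : J ≤ (K.subgroupOf (cent v)).map π := by
    intro j hj
    have hj' : j ∈ centralizer (img (cent v) (compT S v J) : Set (CBar v)) := by
      refine mem_centralizer_iff.2 ?_
      rintro _ ⟨a, ha, rfl⟩
      obtain ⟨_, ha', haJ⟩ := mem_compT.1 (mem_subgroupOf.1 ha)
      exact (mem_centralizer_iff.1 haJ j hj).symm
    rw [Components.CoreSeparated.centralizer_img hT2 (compT_le_cent St h.mem)] at hj'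
    obtain ⟨c, hc, rfl⟩ := hj'
    exact ⟨c, mem_subgroupOf.2 ⟨mem_subgroupOf.1 hc, c, hj, rfl⟩, rfl⟩
  obtain ⟨P, ⟨hPA, hPJ⟩, hmin⟩ : ∃ P, _root_.Minimal
      (fun P : Subgroup (cent v) => P ≤ K.subgroupOf (cent v) ∧ J ≤ P.map π) P :=
    (Set.toFinite {P : Subgroup (cent v) | P ≤ K.subgroupOf (cent v) ∧ J ≤ P.map π}).exists_minimal
      ⟨_, le_rfl, hle⟩
  have hPP : ⁅P, P⁆ ≤ P := commutator_le.2 fun a ha b hb => by
    rw [commutatorElement_def]
    exact mul_mem (mul_mem (mul_mem ha hb) (inv_mem ha)) (inv_mem hb)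
  have hperf : ⁅P, P⁆ = P := le_antisymm hPP (hmin ⟨hPP.trans hPA, by
    rw [map_commutator]
    exact (Components.IsComponent.commutator_self h.comp).ge.trans (commutator_mono hPJ hPJ)⟩ hPP)
  have hJR : J ≤ ((res K).subgroupOf (cent v)).map π := hPJ.trans (map_mono fun x hx =>
    mem_subgroupOf.2 ((le_sSup (show P.map (cent v).subtype ∈ {Q : Subgroup G | Q ≤ K ∧ ⁅Q, Q⁆ = Q}
      from ⟨map_le_iff_le_comap.2 hPA, by rw [← map_commutator, hperf]⟩)) ⟨x, hx, rfl⟩))
  refine ⟨fun u hu => ?_, hJR⟩
  haveI hn : ((res K).subgroupOf K).Normal :=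
    normal_subgroupOf_of_le_normalizer fun g hg => le_normalizer_res (Subgroup.le_normalizer hg)
  have huK : u ∈ K := compU_le_preComp St hu
  obtain ⟨huS, hu', huJ⟩ := mem_compU.1 hu
  set q := QuotientGroup.mk' ((res K).subgroupOf K) with hq
  have hsurj : Odd (Nat.card (K ⧸ (res K).subgroupOf K)) := by
    set f := q.comp (inclusion (inf_le_left : K ⊓ oC v ≤ K)) with hf
    have hfs : Function.Surjective f := by
      intro y
      obtain ⟨k, rfl⟩ := QuotientGroup.mk'_surjective _ y
      have hkJ : π ⟨k, hKv k.2⟩ ∈ J := by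
        obtain ⟨c, hc, e⟩ := (mem_inf.1 k.2).2
        have : c = ⟨k, hKv k.2⟩ := Subtype.ext e
        rw [← this]; exact hc
      obtain ⟨r, hr, e⟩ := hJR hkJ
      have hrR : (r : G) ∈ res K := mem_subgroupOf.1 hr
      have ho : (r : G)⁻¹ * k ∈ K ⊓ oC v := by
        refine ⟨K.mul_mem (K.inv_mem (res_le K hrR)) k.2, ?_⟩
        refine ⟨r⁻¹ * ⟨k, hKv k.2⟩, ?_, rfl⟩
        exact (QuotientGroup.eq_one_iff _).1 (show π (r⁻¹ * ⟨k, hKv k.2⟩) = 1 by
          rw [map_mul, map_inv, e, inv_mul_cancel])
      refine ⟨⟨_, ho⟩, ?_⟩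
      rw [hf, MonoidHom.comp_apply, hq, QuotientGroup.mk'_apply, QuotientGroup.mk'_apply,
        QuotientGroup.eq, mem_subgroupOf]
      show ((r : G)⁻¹ * k)⁻¹ * k ∈ res K
      rw [mul_inv_rev, inv_inv, mul_assoc, ← mul_assoc (k : G)⁻¹]
      have hk := LocalEven.ProductFusion.conj_mem_of_mem_normalizer
        (le_normalizer_res (Subgroup.le_normalizer (K.inv_mem k.2))) hrR
      rwa [inv_inv] at hk
    exact (LocalEven.ProductFusion.odd_of_le inf_le_right
      (LocalEven.ProductFusion.odd_card_oc _)).of_dvd_nat (card_dvd_of_surjective f hfs)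
  have h2 : (⟨u, huK⟩ : K) * ⟨u, huK⟩ = 1 := Subtype.ext (St.mul_self huS)
  have h1 : q ⟨u, huK⟩ = 1 := by
    have ho : Odd (orderOf (q ⟨u, huK⟩)) := hsurj.of_dvd_nat (_root_.orderOf_dvd_natCard _)
    refine Subgroup.mem_bot.1 ((LocalEven.ProductFusion.sq_mem_iff (N := ⊥) ho).1 ?_)
    rw [Subgroup.mem_bot, ← map_mul, h2, map_one]
  exact mem_subgroupOf.1 ((QuotientGroup.eq_one_iff (N := (res K).subgroupOf K) _).1 h1)

/-- The image of the residual in `C(w)/O(C(w))` lies in the layer. -/
theorem img_res_le_layer (F : CompFacts S) (St : Setting S) {w : G} (hw : w ∈ S) (hw1 : w ≠ 1)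
    {P : Subgroup (CBar w)} (hP : ⁅P, P⁆ = P) : P ≤ Cfsg.layer (CBar w) := by
  haveI : Fact (Nat.Prime 2) := ⟨Nat.prime_two⟩
  set E := Cfsg.layer (CBar w)
  set O := Cfsg.pCore 2 (CBar w)
  haveI : O.Normal := Cfsg.pCore_normal 2 _
  haveI hKn : (E ⊔ O).Normal := inferInstance
  obtain ⟨Q, hQ⟩ := St.sylow
  set Qb := (Q.subtype (hQ ▸ St.le_cent hw)).mapSurjective
    (QuotientGroup.mk'_surjective (Cfsg.pPrimeCore 2 ↥(cent w))) with hQb
  haveI : Group.IsSolvable (CBar w ⧸ (E ⊔ O)) := by
    refine Cfsg.Agent.S0205.result ?_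
    rw [← index_eq_card]
    refine Odd.of_dvd_nat (Nat.not_even_iff_odd.1 fun he => Qb.not_dvd_index he.two_dvd)
      (index_dvd_of_le ?_)
    rw [hQb, Sylow.coe_mapSurjective, Sylow.coe_subtype, hQ]
    exact F.inner w hw hw1
  haveI : Group.IsSolvable (CBar w ⧸ E) := by
    haveI : Group.IsSolvable O := by
      haveI := (Solvable.Cores.isPGroup_pCore (G := CBar w) 2).isNilpotent
      infer_instance
    haveI : Group.IsSolvable ((E ⊔ O).map (QuotientGroup.mk' E) : Subgroup (CBar w ⧸ E)) := by
      have e : (E ⊔ O).map (QuotientGroup.mk' E) = O.map (QuotientGroup.mk' E) := by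
        rw [Subgroup.map_sup, QuotientGroup.map_mk'_self, bot_sup_eq]
      rw [e]
      exact Group.isSolvable_of_surjective (f := (QuotientGroup.mk' E).subgroupMap O)
        (MonoidHom.subgroupMap_surjective _ _)
    haveI : Group.IsSolvable ((CBar w ⧸ E) ⧸ (E ⊔ O).map (QuotientGroup.mk' E)) :=
      Group.isSolvable_of_surjective
        (f := (QuotientGroup.quotientQuotientEquivQuotient E (E ⊔ O) le_sup_left).symm.toMonoidHom)
        (MulEquiv.surjective _)
    exact Group.isSolvable_of_ker_le_range ((E ⊔ O).map (QuotientGroup.mk' E)).subtype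
      (QuotientGroup.mk' ((E ⊔ O).map (QuotientGroup.mk' E)))
      (by rw [QuotientGroup.ker_mk', Subgroup.range_subtype])
  have h1 : P.map (QuotientGroup.mk' E) = ⊥ :=
    eq_bot_of_perfect_of_solvable (by rw [← map_commutator, hP])
  intro x hx
  refine (QuotientGroup.eq_one_iff (N := E) x).1 ?_
  exact (eq_bot_iff_forall _).1 h1 _ ⟨x, hx, rfl⟩

/-- A perfect subgroup of the layer centralising all components but `K` lies in `K`. -/
theorem le_of_centralizes {H : Type*} [Group H] [Finite H] {K P : Subgroup H}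
    (hK : Cfsg.IsComponent K) (hP : ⁅P, P⁆ = P) (hPE : P ≤ Cfsg.layer H)
    (hc : ∀ L : Subgroup H, Cfsg.IsComponent L → L ≠ K → P ≤ centralizer (L : Set H)) : P ≤ K := by
  set E' := ⨆ L : {L : Subgroup H // Cfsg.IsComponent L ∧ L ≠ K}, (L : Subgroup H) with hE'
  have hKE : K ≤ centralizer (E' : Set H) := by
    rw [le_centralizer_iff]
    exact iSup_le fun L => Components.IsComponent.le_centralizer_of_ne L.2.1 hK L.2.2
  have hPE' : P ≤ centralizer (E' : Set H) := by
    rw [le_centralizer_iff]
    exact iSup_le fun L => le_centralizer_iff.1 (hc L L.2.1 L.2.2)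
  have hsup : Cfsg.layer H ≤ K ⊔ E' := Components.layer_le_iff.2 fun L hL => by
    by_cases h : L = K
    · exact h ▸ le_sup_left
    · exact le_sup_of_le_right (le_iSup (fun L : {L : Subgroup H // Cfsg.IsComponent L ∧ L ≠ K} =>
        (L : Subgroup H)) ⟨L, hL, h⟩)
  have hn : E' ≤ normalizer (K : Set H) :=
    (le_centralizer_iff.1 hKE).trans (centralizer_le_normalizer _)
  rw [← hP]
  refine commutator_le.2 fun a ha b hb => ?_
  obtain ⟨k, hk, o, ho, rfl⟩ := (Coprime.mem_sup_of_le_normalizer hn).1 (hsup (hPE ha))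
  obtain ⟨k', hk', o', ho', rfl⟩ := (Coprime.mem_sup_of_le_normalizer hn).1 (hsup (hPE hb))
  have hoc : Commute o o' := by
    have hao : k⁻¹ * (k * o) ∈ centralizer (E' : Set H) := mul_mem (inv_mem (hKE hk)) (hPE' ha)
    rw [inv_mul_cancel_left] at hao
    exact (mem_centralizer_iff.1 hao o' ho').symm
  have c1 : Commute o k' := mem_centralizer_iff.1 (hKE hk') o ho
  have c2 : Commute o' k := mem_centralizer_iff.1 (hKE hk) o' ho'
  have e : ⁅k * o, k' * o'⁆ = ⁅k, k'⁆ := by
    simp only [commutatorElement_def, mul_inv_rev]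
    calc k * o * (k' * o') * (o⁻¹ * k⁻¹) * (o'⁻¹ * k'⁻¹)
        = k * (o * k') * (o' * o⁻¹) * (k⁻¹ * o'⁻¹) * k'⁻¹ := by group
      _ = k * (k' * o) * (o⁻¹ * o') * (o'⁻¹ * k⁻¹) * k'⁻¹ := by
        rw [c1.eq, hoc.symm.inv_right.eq, c2.inv_inv.symm.eq]
      _ = k * k' * k⁻¹ * k'⁻¹ := by group
  rw [e, commutatorElement_def]
  exact mul_mem (mul_mem (mul_mem hk hk') (inv_mem hk)) (inv_mem hk')

/-- **The pump.** -/
theorem pumpHyp (F : CompFacts S) (St : Setting S) : PumpHyp S := by
  intro v hv hv1 J hJ w hw hw1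
  haveI : Fact (Nat.Prime 2) := ⟨Nat.prime_two⟩
  have h : IsComp S v J := ⟨hv, hv1, hJ⟩
  obtain ⟨hUR, hJR⟩ := F.compU_le_res St h
  set R := res (preComp S v J) with hR
  have hD := F.data v hv hv1 J hJ
  have hwS : w ∈ S := hw.1
  have hRT : R ≤ centralizer (compT S v J : Set G) := (res_le _).trans inf_le_left
  have hRv : R ≤ cent v := (res_le _).trans (inf_le_right.trans (map_subtype_le _))
  have hRw : R ≤ cent w := hRT.trans (centralizer_le (Set.singleton_subset_iff.2 hw))
  set π := qmap (cent w) with hπ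
  set Rb := img (cent w) R with hRb
  have hRb' : ⁅Rb, Rb⁆ = Rb := by
    rw [hRb, img, ← map_commutator]
    refine congrArg _ (map_injective (cent w).subtype_injective ?_)
    rw [map_commutator, subgroupOf_map_subtype, inf_eq_left.2 hRw, hR, res_perfect]
  have hE := F.img_res_le_layer St hwS hw1 hRb'
  -- an element of `compU` centralising a component acted on by `R` is trivial
  have key : ∀ K : Subgroup (CBar w), Cfsg.IsComponent K → ¬ Rb ≤ centralizer (K : Set (CBar w)) →
      ∀ u ∈ compU S v J, ∀ a ∈ compT S v J, ∀ hx : u * a ∈ cent w,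
        π ⟨u * a, hx⟩ ∈ centralizer (K : Set (CBar w)) → u = 1 := by
    intro K hK hKR u hu a ha hx0 hua
    by_contra hu1
    have hKn : Rb ≤ normalizer (K : Set (CBar w)) := hE.trans (Components.layer_le_normalizer hK)
    -- the elements of `R` whose action on `K` commutes with that of `R`
    set N0 := (centralizer (K : Set (CBar w))).comap π with hN0
    set Rv := R.subgroupOf (cent v) with hRv0
    set Rw := R.subgroupOf (cent w) with hRw0
    set N := N0 ⊓ Rw with hN
    have hNn : Rw ≤ normalizer (N : Set (cent w)) := by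
      refine (le_inf ?_ Subgroup.le_normalizer).trans inf_normalizer_le_normalizer_inf
      intro g hg
      refine mem_normalizer_iff.2 fun x => ?_
      show π x ∈ centralizer (K : Set (CBar w)) ↔ π (g * x * g⁻¹) ∈ centralizer (K : Set (CBar w))
      rw [map_mul, map_mul, map_inv]
      exact mem_normalizer_iff.1 (Components.GlaubermanSylow.normalizer_le_normalizer_centralizer _
        (hKn (mem_map_of_mem π hg))) _
    -- their image in `J`
    set M := ((N.map (cent w).subtype).subgroupOf (cent v)).map (qmap (cent v)) with hM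
    have hMJ : M ≤ J := by
      rintro _ ⟨x, ⟨y, hy, e⟩, rfl⟩
      have hxR : (x : G) ∈ R := by
        rw [show (x : G) = (y : G) from e.symm]; exact mem_subgroupOf.1 (mem_inf.1 hy).2
      obtain ⟨c, hc, hcx⟩ := (mem_inf.1 (res_le _ hxR)).2
      have : c = x := Subtype.ext hcx
      rw [← this]; exact hc
    have hMn : J ≤ normalizer (M : Set (CBar v)) := by
      refine hJR.trans ?_
      rintro _ ⟨g, hg, rfl⟩
      refine le_normalizer_map _ (mem_map_of_mem _ (mem_normalizer_iff.2 fun x => ?_))
      have hgw : (g : G) ∈ cent w := hRw (mem_subgroupOf.1 hg)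
      have hn := mem_normalizer_iff.1
        (le_normalizer_map (cent w).subtype (mem_map_of_mem (cent w).subtype
          (hNn (show (⟨g, hgw⟩ : cent w) ∈ Rw from mem_subgroupOf.2 (mem_subgroupOf.1 hg))))) x
      exact hn
    haveI := hD.simple
    haveI : (M.subgroupOf J).Normal := normal_subgroupOf_of_le_normalizer hMn
    rcases Subgroup.Normal.eq_bot_or_eq_top (inferInstance : (M.subgroupOf J).Normal) with h0 | h0
    · -- `u` gives a non-trivial central element of `J`
      have huR : u ∈ R := hUR hu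
      obtain ⟨huS, huv, huJ⟩ := mem_compU.1 hu
      have hcen : ∀ j ∈ J, Commute (qmap (cent v) ⟨u, huv⟩) j := by
        intro j hj
        obtain ⟨g, hg, rfl⟩ := hJR hj
        have hgR : (g : G) ∈ R := mem_subgroupOf.1 hg
        have hgw : (g : G) ∈ cent w := hRw hgR
        have huw : u ∈ cent w := St.le_cent hwS huS
        have haw : a ∈ cent w := St.le_cent hwS (mem_compT.1 ha).1
        have hmem : (⁅(⟨g, hgw⟩ : cent w), (⟨u, huw⟩ : cent w)⁆) ∈ N := by
          refine ⟨?_, ?_⟩
          · show π ⁅(⟨g, hgw⟩ : cent w), (⟨u, huw⟩ : cent w)⁆ ∈ centralizer (K : Set (CBar w))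
            have e : ⁅(⟨g, hgw⟩ : cent w), (⟨u, huw⟩ : cent w)⁆ = ⁅(⟨g, hgw⟩ : cent w), (⟨u * a, mul_mem huw haw⟩ : cent w)⁆ := by
              refine Subtype.ext ?_
              have hga : Commute (g : G) a := (mem_centralizer_iff.1 (hRT hgR) a ha).symm
              have hau : Commute a u := St.commute (mem_compT.1 ha).1 huS
              simp only [commutatorElement_def, Subgroup.coe_mul, Subgroup.coe_inv, mul_inv_rev]
              calc (g : G) * u * (g : G)⁻¹ * u⁻¹
                  = g * u * (a * (g : G)⁻¹ * a⁻¹) * u⁻¹ := by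
                    rw [hga.inv_left.symm.eq, mul_inv_cancel_right]
                _ = g * (u * a) * (g : G)⁻¹ * (a⁻¹ * u⁻¹) := by group
            rw [e, map_commutatorElement, commutatorElement_def, mul_assoc, mul_assoc]
            rw [← mul_assoc (π ⟨u * a, mul_mem huw haw⟩)]
            have hn := Components.GlaubermanSylow.normalizer_le_normalizer_centralizer _
              (hKn (mem_map_of_mem π (show (⟨g, hgw⟩ : cent w) ∈ Rw from mem_subgroupOf.2 hgR)))
            have h1 := (mem_normalizer_iff.1 hn _).1 hua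
            rw [mul_assoc] at h1
            rw [← mul_assoc, ← mul_assoc]
            exact mul_mem (by rwa [← mul_assoc] at h1) (inv_mem hua)
          · refine mem_subgroupOf.2 ?_
            simp only [commutatorElement_def, Subgroup.coe_mul, Subgroup.coe_inv]
            exact R.mul_mem (R.mul_mem (R.mul_mem hgR huR) (R.inv_mem hgR)) (R.inv_mem huR)
        have h1 : qmap (cent v) ⁅g, (⟨u, huv⟩ : cent v)⁆ ∈ M :=
          ⟨⁅g, (⟨u, huv⟩ : cent v)⁆, ⟨_, hmem, by simp [commutatorElement_def]⟩, rfl⟩
        rw [subgroupOf_eq_bot, disjoint_iff] at h0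
        have h2 : qmap (cent v) ⁅g, (⟨u, huv⟩ : cent v)⁆ = 1 := by
          rw [← Subgroup.mem_bot, ← h0]
          exact mem_inf.2 ⟨h1, hMJ h1⟩
        rw [map_commutatorElement] at h2
        exact (commutatorElement_eq_one_iff_commute.1 h2).symm
      have hZ : (⟨_, huJ⟩ : J) ∈ center J := mem_center_iff.2 fun j =>
        Subtype.ext (hcen j j.2).symm.eq
      rcases Subgroup.Normal.eq_bot_or_eq_top (inferInstance : (center J).Normal) with e | e
      · rw [e, Subgroup.mem_bot] at hZ
        have hu0 : u ∈ compT S v J := mem_compT.2 ⟨huS, huv, mem_centralizer_iff.2 fun j _ => by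
          rw [show qmap (cent v) ⟨u, huv⟩ = 1 from congrArg Subtype.val hZ, mul_one, one_mul]⟩
        exact hu1 (Subgroup.mem_bot.1 (hD.disjoint ▸ (mem_inf.2 ⟨hu, hu0⟩)))
      · have hcomm : ∀ x y : J, x * y = y * x := fun x y =>
          mem_center_iff.1 (show y ∈ center J by rw [e]; exact mem_top y) x
        refine Components.IsComponent.not_isSolvable hJ ?_
        exact Group.isSolvable_of_comm hcomm
    · -- then the image of `R` would centralise `K`
      refine hKR ?_
      have hJM : J ≤ M := subgroupOf_eq_top.1 h0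
      haveI hNn' : (N.subgroupOf Rw).Normal := normal_subgroupOf_of_le_normalizer hNn
      -- `R` is perfect and odd modulo `N`
      have hodd : Odd (Nat.card (Rw ⧸ N.subgroupOf Rw)) := by
        set Q0 := (oC v ⊓ R).subgroupOf (cent w) with hQ0
        have hQR : Q0 ≤ Rw := comap_mono inf_le_right
        set f := (QuotientGroup.mk' (N.subgroupOf Rw)).comp (inclusion hQR) with hf
        have hfs : Function.Surjective f := by
          intro y
          obtain ⟨k, rfl⟩ := QuotientGroup.mk'_surjective _ y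
          have hkR : ((k : cent w) : G) ∈ R := mem_subgroupOf.1 k.2
          obtain ⟨x, ⟨n, hn, enx⟩, e⟩ := hJM (show qmap (cent v) ⟨_, hRv hkR⟩ ∈ J by
            obtain ⟨c, hc, hcx⟩ := (mem_inf.1 (res_le _ hkR)).2
            have : c = ⟨_, hRv hkR⟩ := Subtype.ext hcx
            rw [← this]; exact hc)
          have hnR : (n : G) ∈ R := mem_subgroupOf.1 (mem_inf.1 hn).2
          have ho : ((k : cent w) : G) * (n : G)⁻¹ ∈ oC v ⊓ R := by
            refine ⟨⟨⟨_, hRv hkR⟩ * x⁻¹, ?_, ?_⟩, R.mul_mem hkR (R.inv_mem hnR)⟩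
            · exact (QuotientGroup.eq_one_iff _).1 (show qmap (cent v) (⟨_, hRv hkR⟩ * x⁻¹) = 1 by
                rw [map_mul, map_inv, e, mul_inv_cancel])
            · show ((k : cent w) : G) * (x : G)⁻¹ = _
              rw [show (x : G) = (n : G) from enx.symm]
          refine ⟨⟨(k : cent w) * n⁻¹, mem_subgroupOf.2 ho⟩, ?_⟩
          rw [hf, MonoidHom.comp_apply, QuotientGroup.mk'_apply, QuotientGroup.mk'_apply,
            QuotientGroup.eq, mem_subgroupOf]
          show ((k : cent w) * n⁻¹)⁻¹ * (k : cent w) ∈ N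
          rw [mul_inv_rev, inv_inv, mul_assoc, inv_mul_cancel, mul_one]
          exact hn
        refine Odd.of_dvd_nat ?_ (card_dvd_of_surjective f hfs)
        rw [Nat.card_congr (subgroupOfEquivOfLe (inf_le_right.trans hRw)).toEquiv]
        exact LocalEven.ProductFusion.odd_of_le inf_le_left (LocalEven.ProductFusion.odd_card_oc _)
      haveI : Group.IsSolvable (Rw ⧸ N.subgroupOf Rw) := Cfsg.Agent.S0205.result hodd
      have hP : ⁅(⊤ : Subgroup Rw), (⊤ : Subgroup Rw)⁆ = ⊤ := by
        refine map_injective Rw.subtype_injective ?_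
        rw [map_commutator, ← MonoidHom.range_eq_map, Subgroup.range_subtype]
        refine map_injective (cent w).subtype_injective ?_
        rw [map_commutator, subgroupOf_map_subtype, inf_eq_left.2 hRw, hR, res_perfect]
      have h1 : (⊤ : Subgroup Rw).map (QuotientGroup.mk' (N.subgroupOf Rw)) = ⊥ :=
        eq_bot_of_perfect_of_solvable (by rw [← map_commutator, hP])
      rintro _ ⟨g, hg, rfl⟩
      have h2 := (QuotientGroup.eq_one_iff (N := N.subgroupOf Rw) ⟨g, hg⟩).1
        ((eq_bot_iff_forall _).1 h1 _ ⟨⟨g, hg⟩, mem_top _, rfl⟩)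
      exact (mem_inf.1 (mem_subgroupOf.1 h2)).1
  have hTK : ∀ K : Subgroup (CBar w), Cfsg.IsComponent K →
      ¬ Rb ≤ centralizer (K : Set (CBar w)) → compT S w K ≤ compT S v J := by
    intro K hK hKR x hx
    obtain ⟨u, hu, a, ha, rfl⟩ := St.mem_sup (A := compU S v J) (B := compT S v J)
      inf_le_left inf_le_left (by rw [hD.sup]; exact (mem_compT.1 hx).1)
    obtain ⟨_, hx', hxK⟩ := mem_compT.1 hx
    rw [key K hK hKR u hu a ha hx' hxK, one_mul]
    exact ha
  obtain ⟨u, hu, hu1⟩ := (compU S v J).bot_or_exists_ne_one.resolve_left fun e => by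
    have := hD.four; rw [e, Subgroup.card_bot] at this; omega
  obtain ⟨huS, -, -⟩ := mem_compU.1 hu
  have huw : u ∈ cent w := St.le_cent hwS huS
  obtain ⟨K, hK, hKR⟩ : ∃ K : Subgroup (CBar w), Cfsg.IsComponent K ∧
      ¬ Rb ≤ centralizer (K : Set (CBar w)) := by
    by_contra hcon
    push Not at hcon
    have hc : Rb ≤ centralizer (Rb : Set (CBar w)) :=
      (le_centralizer_iff.1 (Components.layer_le_iff.2 fun L hL => le_centralizer_iff.1 (hcon L hL))).trans
        (centralizer_le hE)
    have hb : Rb = ⊥ := by rw [← hRb']; exact commutator_eq_bot_iff_le_centralizer.2 hc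
    have hRo := Components.CoreSeparated.mem_core_of_img_eq_bot hRw hb
    have ho := LocalEven.ProductFusion.odd_orderOf (LocalEven.ProductFusion.odd_card_oc (cent w))
      (hRo (hUR hu))
    rw [St.orderOf_two huS hu1] at ho
    exact absurd ho (by norm_num)
  refine ⟨K, hK, ?_, hTK K hK hKR⟩
  have huniq : ∀ L : Subgroup (CBar w), Cfsg.IsComponent L → L ≠ K →
      Rb ≤ centralizer (L : Set (CBar w)) := by
    intro L hL hne
    by_contra hLR
    have hle : compU S w L ≤ compT S w K := F.compU_le_compT hL hK hne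
    have hS : S ≤ compT S v J := by
      refine (F.data w hwS hw1 L hL).sup.ge.trans (sup_le ?_ (hTK L hL hLR))
      exact hle.trans (hTK K hK hKR)
    exact hu1 (Subgroup.mem_bot.1 (hD.disjoint ▸ mem_inf.2 ⟨hu, hS huS⟩))
  have hRK : Rb ≤ K := le_of_centralizes hK hRb' hE huniq
  intro x hx
  exact mem_compU.2 ⟨(mem_compU.1 hx).1, hRw (hUR hx),
    hRK (Components.CoreSeparated.mem_img _ (hUR hx))⟩

end CompFacts

end CfsgLib.WalterRank
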