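import Cfsg.Agent.Lib.WalterRank.Functor
import Cfsg.Agent.Lib.LocalEven.ProductFusion.Product
import Cfsg.Agent.Lib.GWDihedral.Consumers.Perfect
import Cfsg.Agent.Lib.Solvable.Cores

/-!
# The perfect residual of `C(others U l)`

It lies in every normalised subgroup containing `U l`, it covers the components of the block `l`,
and together with `N(S)` and the odd cores it generates all centralisers of involutions.
-/

set_option autoImplicit false
set_option linter.unusedSectionVars false
set_option linter.style.haveILetI false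

universe u

namespace CfsgLib.WalterRank

open Subgroup
open CfsgLib.Components.CoreSeparated (img qmap)
open CfsgLib.LocalEven.ProductFusion (oC)
open scoped commutatorElement

variable {G : Type u} [Group G]

/-- The largest perfect subgroup of `H`. -/
def res (H : Subgroup G) : Subgroup G := sSup {P : Subgroup G | P ≤ H ∧ ⁅P, P⁆ = P}

theorem res_le (H : Subgroup G) : res H ≤ H := sSup_le fun _ hP => hP.1

theorem res_perfect (H : Subgroup G) : ⁅res H, res H⁆ = res H := by
  refine le_antisymm (commutator_le.2 fun a ha b hb => ?_) (sSup_le fun P hP => ?_)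
  · rw [commutatorElement_def]
    exact mul_mem (mul_mem (mul_mem ha hb) (inv_mem ha)) (inv_mem hb)
  · exact hP.2.ge.trans (commutator_mono (le_sSup hP) (le_sSup hP))

/-- An element carrying `H` into `K` carries `res H` into `res K`. -/
theorem conj_mem_res {H K : Subgroup G} {g : G} (h : ∀ x ∈ H, g * x * g⁻¹ ∈ K) :
    ∀ x ∈ res H, g * x * g⁻¹ ∈ res K := by
  have hle : res H ≤ (res K).comap (MulAut.conj g).toMonoidHom :=
    sSup_le fun P hP => map_le_iff_le_comap.1 (le_sSup ⟨map_le_iff_le_comap.2 fun x hx => h x (hP.1 hx),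
      by rw [← map_commutator, hP.2]⟩)
  exact fun x hx => hle hx

theorem eq_bot_of_perfect_of_solvable {K : Type*} [Group K] [Finite K] [Group.IsSolvable K] {P : Subgroup K}
    (hP : ⁅P, P⁆ = P) : P = ⊥ := by
  haveI : Group.IsPerfect P := Subgroup.isPerfect_iff.2 hP
  haveI := GWDihedral.Consumers.subsingleton_of_perfect_solvable (G := P)
  exact eq_bot_of_subsingleton P

variable [Finite G] {S : Subgroup G} {ι : Type*} {U : ι → Subgroup G}

theorem le_normalizer_res {H : Subgroup G} {g : G} (h : g ∈ normalizer (H : Set G)) :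
    g ∈ normalizer (res H : Set G) :=
  LocalEven.ProductFusion.mem_normalizer_of_conj
    (conj_mem_res fun _ hx => LocalEven.ProductFusion.conj_mem_of_mem_normalizer h hx)

namespace Blocks

theorem sylow_of_le (_B : Blocks S U) (St : Setting S) {H : Subgroup G} (hS : S ≤ H) :
    ∃ P : Sylow 2 H, (P : Subgroup H) = S.subgroupOf H := by
  obtain ⟨P, hP⟩ := St.sylow
  exact ⟨P.subtype (hP ▸ hS), by rw [Sylow.coe_subtype, hP]⟩

theorem le_centralizer_others (B : Blocks S U) (St : Setting S) (l : ι) :
    S ≤ centralizer (others U l : Set G) := St.le_centralizer (B.others_le l)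

/-- The residual of `C(others U l)` lies in every subgroup containing `U l` which it normalises. -/
theorem res_le_of (B : Blocks S U) (St : Setting S) {l : ι} {N : Subgroup G} (hU : U l ≤ N)
    (hn : centralizer (others U l : Set G) ≤ normalizer (N : Set G)) :
    res (centralizer (others U l : Set G)) ≤ N := by
  haveI : Fact (Nat.Prime 2) := ⟨Nat.prime_two⟩
  set K := centralizer (others U l : Set G) with hK
  haveI : (N.subgroupOf K).Normal := normal_subgroupOf_of_le_normalizer hn
  obtain ⟨P, hP⟩ := B.sylow_of_le St (B.le_centralizer_others St l)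
  set f := QuotientGroup.mk' (N.subgroupOf K) with hf
  have hc : (P : Subgroup K).map f ≤ center (K ⧸ N.subgroupOf K) := by
    rw [hP]
    rintro _ ⟨s, hs, rfl⟩
    obtain ⟨u, hu, t, ht, e⟩ := St.mem_sup (B.le l) (B.others_le l) (by
      rw [B.sup_others l]; exact hs)
    have htK : t ∈ K := B.le_centralizer_others St l (B.others_le l ht)
    have hfu : f s = f ⟨t, htK⟩ := by
      rw [hf, QuotientGroup.mk'_apply, QuotientGroup.mk'_apply, QuotientGroup.eq]
      refine mem_subgroupOf.2 ?_
      show (s : G)⁻¹ * t ∈ N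
      rw [show (s : G) = u * t from e.symm, mul_inv_rev, mul_assoc, (St.commute (B.le l hu) (B.others_le l ht)).inv_left.eq,
        inv_mul_cancel_left]
      exact inv_mem (hU hu)
    rw [hfu, mem_center_iff]
    intro q
    obtain ⟨k, rfl⟩ := QuotientGroup.mk'_surjective _ q
    rw [← map_mul, ← map_mul]
    exact congrArg f (Subtype.ext (mem_centralizer_iff.1 k.2 t ht).symm)
  haveI : Group.IsSolvable (K ⧸ N.subgroupOf K) := by
    haveI : Group.IsSolvable ((K ⧸ N.subgroupOf K) ⧸ center (K ⧸ N.subgroupOf K)) := by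
      refine Cfsg.Agent.S0205.result ?_
      rw [← index_eq_card]
      refine Odd.of_dvd_nat (Nat.not_even_iff_odd.1 fun he => P.not_dvd_index ?_)
        (index_dvd_of_le hc)
      exact he.two_dvd.trans (index_map_dvd _ (QuotientGroup.mk'_surjective _))
    haveI : Group.IsSolvable (center (K ⧸ N.subgroupOf K)) :=
      Group.isSolvable_of_comm fun a b => Subtype.ext (mem_center_iff.1 b.2 (a : _))
    exact Group.isSolvable_of_ker_le_range (center (K ⧸ N.subgroupOf K)).subtype
      (QuotientGroup.mk' (center (K ⧸ N.subgroupOf K)))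
      (by rw [QuotientGroup.ker_mk', Subgroup.range_subtype])
  set R := (res K).subgroupOf K with hR
  have hRR : ⁅R, R⁆ = R := by
    refine map_injective K.subtype_injective ?_
    rw [map_commutator, subgroupOf_map_subtype, inf_eq_left.2 (res_le K), res_perfect]
  have h1 : R.map f = ⊥ := eq_bot_of_perfect_of_solvable (by rw [← map_commutator, hRR])
  intro x hx
  have h2 : f ⟨x, res_le K hx⟩ = 1 := by
    rw [← Subgroup.mem_bot, ← h1]; exact mem_map_of_mem f (show _ ∈ R from hx)
  exact mem_subgroupOf.1 ((QuotientGroup.eq_one_iff (N := N.subgroupOf K) _).1 h2)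

/-- A component of the block `l` is covered by the residual. -/
theorem comp_le_res (_B : Blocks S U) (St : Setting S) {l : ι} {v : G} (hv : v ∈ S)
    (hT : others U l ≤ S) {J : Subgroup (CBar v)} (hJ : Cfsg.IsComponent J)
    (hJl : img (cent v) (others U l) ≤ centralizer (J : Set (CBar v))) :
    J ≤ ((res (centralizer (others U l : Set G))).subgroupOf (cent v)).map (qmap (cent v)) := by
  haveI : Fact (Nat.Prime 2) := ⟨Nat.prime_two⟩
  set π := qmap (cent v) with hπ
  set A := (centralizer (others U l : Set G)).subgroupOf (cent v) with hA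
  have hle : J ≤ A.map π := by
    refine le_trans (le_centralizer_iff.1 hJl) (le_of_eq ?_)
    exact Components.CoreSeparated.centralizer_img (St.isPGroup.to_le hT) (hT.trans (St.le_cent hv))
  obtain ⟨P, ⟨hPA, hPJ⟩, hmin⟩ : ∃ P, _root_.Minimal (fun P : Subgroup (cent v) => P ≤ A ∧ J ≤ P.map π) P :=
    (Set.toFinite {P : Subgroup (cent v) | P ≤ A ∧ J ≤ P.map π}).exists_minimal ⟨A, le_rfl, hle⟩
  have hPP : ⁅P, P⁆ ≤ P := commutator_le.2 fun a ha b hb => by
    rw [commutatorElement_def]
    exact mul_mem (mul_mem (mul_mem ha hb) (inv_mem ha)) (inv_mem hb)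
  have hperf : ⁅P, P⁆ = P := le_antisymm hPP (hmin ⟨hPP.trans hPA, by
    rw [map_commutator]
    exact (Components.IsComponent.commutator_self hJ).ge.trans (commutator_mono hPJ hPJ)⟩ hPP)
  refine hPJ.trans (map_mono fun x hx => mem_subgroupOf.2 ?_)
  exact (le_sSup (show P.map (cent v).subtype ∈ {Q : Subgroup G | Q ≤ centralizer (others U l : Set G) ∧
    ⁅Q, Q⁆ = Q} from ⟨map_le_iff_le_comap.2 hPA, by rw [← map_commutator, hperf]⟩)) ⟨x, hx, rfl⟩

/-- **Generation of the centralisers.** -/
theorem cent_le_of (B : Blocks S U) (St : Setting S) {M : Subgroup G}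
    (hS : normalizer (S : Set G) ≤ M) {v : G} (hv : v ∈ S) (hv1 : v ≠ 1) (hO : oC v ≤ M)
    (hres : ∀ l, res (centralizer (others U l : Set G)) ≤ M) : cent v ≤ M := by
  haveI : Fact (Nat.Prime 2) := ⟨Nat.prime_two⟩
  set π := qmap (cent v) with hπ
  have hSC : S ≤ cent v := St.le_cent hv
  obtain ⟨P, hP⟩ := B.sylow_of_le St hSC
  set M' := M.subgroupOf (cent v) with hM'
  set Kb := Cfsg.layer (CBar v) ⊔ Cfsg.pCore 2 (CBar v) with hKb
  have hKM : Kb ≤ M'.map π := by
    refine sup_le (Components.layer_le_iff.2 fun J hJ => ?_) ?_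
    · obtain ⟨l, hl⟩ := B.sep v hv hv1 J hJ
      exact (B.comp_le_res St hv (B.others_le l) hJ hl).trans (map_mono (comap_mono (hres l)))
    · refine (Solvable.Cores.pCore_le_sylow (P.mapSurjective (QuotientGroup.mk'_surjective _))).trans ?_
      rw [Sylow.coe_mapSurjective, hP]
      exact map_mono (comap_mono (le_trans Subgroup.le_normalizer hS))
  have hker : π.ker ≤ M' := by
    intro x hx
    refine mem_subgroupOf.2 (hO ?_)
    exact ⟨x, by rwa [hπ, QuotientGroup.ker_mk'] at hx, rfl⟩
  have hpre : Kb.comap π ≤ M' := by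
    refine (comap_mono hKM).trans ?_
    rw [comap_map_eq, sup_of_le_left hker]
  haveI : Kb.Normal := by
    haveI := Cfsg.pCore_normal 2 (CBar v)
    infer_instance
  have hPK : (P : Subgroup (cent v)) ≤ Kb.comap π := by
    rw [hP, ← map_le_iff_le_comap]
    exact B.inner v hv hv1
  have htop := Sylow.normalizer_sup_eq_top (P.subtype hPK)
  intro x hx
  have hxm : (⟨x, hx⟩ : cent v) ∈ M' := by
    have hmem : (⟨x, hx⟩ : cent v) ∈ (⊤ : Subgroup (cent v)) := mem_top _
    rw [← htop] at hmem
    refine (sup_le ?_ hpre) hmem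
    rw [Sylow.coe_subtype, subgroupOf_map_subtype, inf_eq_left.2 hPK, hP]
    intro g hg
    refine mem_subgroupOf.2 (hS (LocalEven.ProductFusion.mem_normalizer_of_conj fun s hs => ?_))
    exact (mem_normalizer_iff.1 hg ⟨s, hSC hs⟩).1 (mem_subgroupOf.2 hs)
  exact mem_subgroupOf.1 hxm

/-- A hyperplane of `S` meets every block. -/
theorem exists_mem_hyperplane (B : Blocks S U) {D : Subgroup G} (hDi : D.relIndex S = 2) (l : ι) :
    ∃ x ∈ U l, x ≠ 1 ∧ x ∈ D := by
  by_contra hcon
  push Not at hcon
  have h0 : D ⊓ U l = ⊥ := eq_bot_iff.2 fun x hx => Subgroup.mem_bot.2 (by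
    by_contra h1; exact hcon x hx.2 h1 hx.1)
  have h1 : (D ⊓ U l).relIndex (U l) ≤ D.relIndex S := by
    rw [inf_relIndex_right]
    exact relIndex_le_of_le_right (B.le l) (by rw [hDi]; norm_num)
  rw [h0, relIndex_bot_left, hDi] at h1
  have := B.four l
  omega

/-- `O(C(v))` is generated by its intersections with centralisers of hyperplanes. -/
theorem oC_le_of (_B : Blocks S U) (St : Setting S) {M : Subgroup G} {v : G} (hv : v ∈ S) (hv1 : v ≠ 1)
    (h : ∀ D ≤ S, D.relIndex S = 2 → centralizer (D : Set G) ≤ M) : oC v ≤ M := by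
  haveI : Fact (Nat.Prime 2) := ⟨Nat.prime_two⟩
  refine (Components.Signalizer.le_iSup_centralizer_relIndex St.elem le_rfl (fun e => hv1 ?_) ?_
    (fun s hs => LocalEven.ProductFusion.mem_normalizer_oC_of_commute (St.commute hs hv))).trans
    (iSup_le fun D => inf_le_right.trans (h D D.2.1 D.2.2))
  · rw [e] at hv; exact Subgroup.mem_bot.1 hv
  · exact Components.Signalizer.not_dvd_centralizerPPrimeCore v

end Blocks

end CfsgLib.WalterRank
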