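import Cfsg.Agent.Lib.Components.CoreSeparated.Basic
import Cfsg.Prelude.Def_TwoFusion
import Mathlib.GroupTheory.Subgroup.Simple
import Mathlib.LinearAlgebra.Matrix.ProjectiveSpecialLinearGroup

/-!
# Simple groups with abelian Sylow 2-subgroups of order at least 16: statements and interfaces

`Setting` is a simple group with elementary abelian Sylow 2-subgroup `S`.  A component `J` of
`C(v)/O(C(v))` cuts out `compU S v J` and `compT S v J` in `S`; `CompFacts` is what is proved about
one component, `PumpHyp` the passage to the centraliser of an element of `compT`, `ModuleHyp` the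
statement about the automiser as a linear group.  They give `Blocks`, which is contradictory.
The paper proof is in `tools/NOTES_WALTER_RANK4.md`.
-/

set_option autoImplicit false
set_option linter.unusedSectionVars false

universe u

namespace CfsgLib.WalterRank

open Subgroup
open CfsgLib.Components.CoreSeparated (img qmap)

variable {G : Type u} [Group G]

/-- `C(v)`. -/
abbrev cent (v : G) : Subgroup G := centralizer ({v} : Set G)

/-- `C(v)/O(C(v))`. -/
abbrev CBar (v : G) := ↥(cent v) ⧸ Cfsg.pPrimeCore 2 ↥(cent v)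

/-- A simple group with elementary abelian Sylow 2-subgroup `S`. -/
structure Setting (S : Subgroup G) : Prop where
  sylow : ∃ P : Sylow 2 G, (P : Subgroup G) = S
  elem : Cfsg.IsElementaryAbelian 2 S
  simple : IsSimpleGroup G
  noncomm : ¬ IsMulCommutative G

/-- The elements of `S` lying in the subgroup `J` of `C(v)/O(C(v))`. -/
def compU (S : Subgroup G) (v : G) (J : Subgroup (CBar v)) : Subgroup G :=
  S ⊓ (J.comap (qmap (cent v))).map (cent v).subtype

/-- The elements of `S` centralising the subgroup `J` of `C(v)/O(C(v))`. -/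
def compT (S : Subgroup G) (v : G) (J : Subgroup (CBar v)) : Subgroup G :=
  S ⊓ ((centralizer (J : Set (CBar v))).comap (qmap (cent v))).map (cent v).subtype

/-- What is known about a component `J` of `C(v)/O(C(v))`: it is simple, `S` induces inner
automorphisms, and some element of `N(S)` centralises `compT` and is transitive on the
non-identity elements of `compU`. -/
structure CompData (S : Subgroup G) (v : G) (J : Subgroup (CBar v)) : Prop where
  simple : IsSimpleGroup ↥J
  sup : compU S v J ⊔ compT S v J = S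
  disjoint : compU S v J ⊓ compT S v J = ⊥
  four : 4 ≤ Nat.card ↥(compU S v J)
  mem : v ∈ compT S v J
  rotate : ∃ x ∈ normalizer (S : Set G), x ∈ centralizer (compT S v J : Set G) ∧
    ∀ a ∈ compU S v J, a ≠ 1 → ∀ b ∈ compU S v J, b ≠ 1 → ∃ n : ℕ, x ^ n * a * (x ^ n)⁻¹ = b

/-- The facts about all components. -/
structure CompFacts (S : Subgroup G) : Prop where
  data : ∀ v ∈ S, v ≠ 1 → ∀ J : Subgroup (CBar v), Cfsg.IsComponent J → CompData S v J
  inner : ∀ v ∈ S, v ≠ 1 → img (cent v) S ≤ Cfsg.layer (CBar v) ⊔ Cfsg.pCore 2 (CBar v)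
  exists_comp : ∃ v ∈ S, v ≠ 1 ∧ ∃ J : Subgroup (CBar v), Cfsg.IsComponent J

/-- The component survives, with no larger `compT`, in the centraliser of an element of `compT`. -/
def PumpHyp (S : Subgroup G) : Prop :=
  ∀ v ∈ S, v ≠ 1 → ∀ J : Subgroup (CBar v), Cfsg.IsComponent J →
    ∀ w ∈ compT S v J, w ≠ 1 → ∃ J' : Subgroup (CBar w), Cfsg.IsComponent J' ∧
      compU S v J ≤ compU S w J' ∧ compT S w J' ≤ compT S v J

/-- The automiser as a linear group: irreducible of odd order, an element centralising `T` and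
transitive on the non-identity elements of a complement `U`, `1 < |T| ≤ |U|`: then `|S| = 8`. -/
def ModuleHyp (S : Subgroup G) : Prop :=
  (∀ X : Subgroup G, X ≤ S → normalizer (S : Set G) ≤ normalizer (X : Set G) → X = ⊥ ∨ X = S) →
    ∀ U T : Subgroup G, U ⊔ T = S → U ⊓ T = ⊥ → 4 ≤ Nat.card ↥U → T ≠ ⊥ →
      Nat.card ↥T ≤ Nat.card ↥U →
      (∃ x ∈ normalizer (S : Set G), x ∈ centralizer (T : Set G) ∧
        ∀ a ∈ U, a ≠ 1 → ∀ b ∈ U, b ≠ 1 → ∃ n : ℕ, x ^ n * a * (x ^ n)⁻¹ = b) →
      Nat.card ↥S = 8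

/-- The join of the blocks other than `U i`. -/
def others {ι : Type*} (U : ι → Subgroup G) (i : ι) : Subgroup G :=
  ⨆ j : {j : ι // j ≠ i}, U j

/-- At least three blocks, permuted by `N(S)`, such that every component of every `C(v)/O(C(v))`
is centralised by all the blocks but one. -/
structure Blocks (S : Subgroup G) {ι : Type*} (U : ι → Subgroup G) : Prop where
  third : ∀ i j : ι, ∃ l, l ≠ i ∧ l ≠ j
  inhabited : Nonempty ι
  sup : ⨆ i, U i = S
  indep : ∀ i, U i ⊓ others U i = ⊥
  four : ∀ i, 4 ≤ Nat.card ↥(U i)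
  perm : ∀ g ∈ normalizer (S : Set G), ∀ i, ∃ j, (U i).map (MulAut.conj g).toMonoidHom = U j
  sep : ∀ v ∈ S, v ≠ 1 → ∀ J : Subgroup (CBar v), Cfsg.IsComponent J →
    ∃ i, img (cent v) (others U i) ≤ centralizer (J : Set (CBar v))
  inner : ∀ v ∈ S, v ≠ 1 → img (cent v) S ≤ Cfsg.layer (CBar v) ⊔ Cfsg.pCore 2 (CBar v)
  exists_comp : ∃ v ∈ S, v ≠ 1 ∧ ∃ J : Subgroup (CBar v), Cfsg.IsComponent J

end CfsgLib.WalterRank

namespace CfsgLib.WalterRank

universe v

/-- `PSL(2,2^a)`, `a ≥ 2`. -/
def IsLTwoEven (G : Type v) [Group G] : Prop :=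
  ∃ a : ℕ, 2 ≤ a ∧ ∃ (F : Type) (_ : Field F) (_ : Fintype F), Fintype.card F = 2 ^ a ∧
    Nonempty (G ≃* Matrix.ProjectiveSpecialLinearGroup (Fin 2) F)

/-- **The theorem.**  A simple group with abelian Sylow 2-subgroups of order at least 16 is
`PSL(2,2^a)`.  It does not depend on the classification of the groups with `|S| = 8`. -/
def LargeSimple : Prop :=
  ∀ (G : Type v) [Group G] [Finite G] [IsSimpleGroup G], ¬ IsMulCommutative G →
    ∀ P : Sylow 2 G, IsMulCommutative ↥(P : Subgroup G) → 16 ≤ Nat.card ↥(P : Subgroup G) →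
      IsLTwoEven G

/-- The inductive hypothesis of `LargeSimple`. -/
def LargeBelow (n : ℕ) : Prop :=
  ∀ (X : Type v) [Group X] [Finite X] [IsSimpleGroup X], Nat.card X < n → ¬ IsMulCommutative X →
    ∀ P : Sylow 2 X, IsMulCommutative ↥(P : Subgroup X) → 16 ≤ Nat.card ↥(P : Subgroup X) →
      IsLTwoEven X

end CfsgLib.WalterRank
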